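import Cfsg.Agent.Lib.Ore.Cyc

/-!
# Chaining the cyclic blocks of an endomorphism
-/

set_option autoImplicit false

namespace Cfsg.Lib.Ore

open Module Polynomial LinearMap Cfsg.Lib.GLC Submodule

universe u

variable {F K R : Type u} [Field F] [AddCommGroup K] [Module F K] [AddCommGroup R] [Module F R]

/-- The state of the elimination. -/
structure St (A : End F K) (v x : K) (y : K →ₗ[F] F) (B : End F R) (μ : Multiset F[X]) : Prop where
  fin : Module.Finite F K
  cyc : Cyc A v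
  two : 2 ≤ finrank F K
  det : LinearMap.det A * LinearMap.det B = 1
  hx : x ∉ span F {A v - v}
  hy : y v ≠ 0
  blocks : Blocks B μ
  pos : ∀ g ∈ μ, 0 < g.natDegree
  beta : (∀ g ∈ μ, g = X - 1) → A (A v - v) ∉ span F {A v - v}

/-- All states of dimension `k` with blocks among `μ` are good. -/
def Level (g : F[X]) (μ : Multiset F[X]) (k : ℕ) : Prop :=
  ∀ (K R : Type u) [AddCommGroup K] [Module F K] [AddCommGroup R] [Module F R] (A : End F K) (v x : K)
    (y : K →ₗ[F] F) (B : End F R) (ν : Multiset F[X]), St A v x y B ν → ν ≤ μ →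
      finrank F K + finrank F R = k → GoodP g A x y B

variable {A : End F K} {v x : K} {y : K →ₗ[F] F} {B : End F R} {μ ν : Multiset F[X]} {g : F[X]} {k : ℕ}

theorem St.isUnit (h : St A v x y B μ) : IsUnit A := by
  haveI := h.fin
  exact (isUnit_iff_isUnit_det A).2 (IsUnit.of_mul_eq_one _ h.det)

theorem det_eq_one_of_blocks (h : Blocks B μ) (h1 : ∀ g ∈ μ, g = X - 1) : LinearMap.det B = 1 := by
  have := (h.aeval_eq_zero_iff (Q := X - 1)).2 fun P hP => by rw [h1 P hP]
  rw [map_sub, aeval_X, map_one, sub_eq_zero] at this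
  rw [this, map_one]

theorem St.step_four (hg : g.eval 1 ≠ 0) (h : St A v x y B ν) (h4 : 4 ≤ finrank F K) (hν : ν ≤ μ)
    (hk : finrank F K + finrank F R = k + 1) (H : Level g μ k) : GoodP g A x y B := by
  haveI := h.fin
  haveI := h.blocks.finite
  obtain ⟨φ, h1, h2, h3, h5⟩ := h.cyc.exists_phi_four h4 h.hx
  obtain ⟨A', x', hs, hx'⟩ := exists_step h1 h2
  have h6 := hs.finrank_eq
  have h7 := hs.cyc h.cyc hx'
  have h8 : LinearMap.det A' * LinearMap.det B = 1 := hs.det_eq ▸ h.det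
  refine GoodP.step hg hs h3 h.hy hx' ?_
  by_cases h9 : φ (A (A v - v)) = 0
  · have h10 := h7.map ((isUnit_iff_isUnit_det A').2 (IsUnit.of_mul_eq_one _ h8))
    refine H _ _ A' (A' x') x' _ B ν ⟨hs.finite, h10, by omega, h8, fun e => ?_, ?_, h.blocks, h.pos,
      fun _ => h10.beta (by omega)⟩ hν (by omega)
    · obtain ⟨s, hs⟩ := mem_span_singleton.1 e
      have h0 : s ≠ 0 := fun e => h7.ne_zero (by omega) (by simpa [e] using hs.symm)
      refine h7.lin2 (by omega) s⁻¹ 1 (smul_right_injective _ h0 ?_)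
      simp only [smul_add, smul_smul, mul_inv_cancel₀ h0]
      linear_combination (norm := module) hs
    · have h11 := hs.hS x'
      simp only [subtype_apply, hx', h9, zero_smul, sub_zero] at h11
      simpa only [comp_apply, subtype_apply, h11] using h5.resolve_left (not_not.2 h9)
  · exact H _ _ A' x' x' _ B ν ⟨hs.finite, h7, by omega, h8, h7.notMem (by omega),
      by simpa only [comp_apply, subtype_apply, hx'] using h9, h.blocks, h.pos,
      fun _ => h7.beta (by omega)⟩ hν (by omega)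

theorem St.step_three (hg : g.eval 1 ≠ 0) (h : St A v x y B ν) (h4 : finrank F K = 3)
    (hF : ∀ a b c : F, ∃ t, t ≠ a ∧ t ≠ b ∧ t ≠ c) (hν : ν ≤ μ)
    (hk : finrank F K + finrank F R = k + 1) (H : Level g μ k) : GoodP g A x y B := by
  haveI := h.fin
  haveI := h.blocks.finite
  obtain ⟨φ, h1, h2, h3, h5, h9⟩ := h.cyc.exists_phi_three h4 hF h.hx
  obtain ⟨A', x', hs, hx'⟩ := exists_step h1 h2
  have h6 := hs.finrank_eq
  have h7 := hs.cyc h.cyc hx'
  refine GoodP.step hg hs h3 h.hy hx' (H _ _ A' x' x' _ B ν ⟨hs.finite, h7, by omega,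
    hs.det_eq ▸ h.det, h7.notMem (by omega), by simpa only [comp_apply, subtype_apply, hx'] using h5,
    h.blocks, h.pos, fun _ e => ?_⟩ hν (by omega))
  obtain ⟨c, hc⟩ := mem_span_singleton.1 e
  have h10 : ((A' x' - x' : ker φ) : K) = A (A v - v) - φ (A (A v - v)) • A v - (A v - v) := by
    have := hs.hS x'
    simp only [subtype_apply, hx'] at this
    rw [Submodule.coe_sub, this, hx']
  have h11 := hs.hS (A' x' - x')
  rw [← hc, map_smul, subtype_apply, h10] at h11
  exact h9 c _ h11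

theorem St.step_one (hg : g.eval 1 ≠ 0) (h : St A v x y B ((X - 1) ::ₘ ν)) (h1 : ∀ P ∈ ν, P = X - 1)
    {t : F} (ht0 : t ≠ 0) (ht1 : t ≠ 1) (hν : ν ≤ μ) (hk : finrank F K + finrank F R = k + 1)
    (H : Level g μ k) : GoodP g A x y B := by
  haveI := h.fin
  have hb := h.beta (by simpa using h1)
  obtain ⟨φ, e0, e1, e2, e3⟩ : ∃ φ : K →ₗ[F] F, φ (A v) = φ v ∧ φ x ≠ 0 ∧ φ (A (A v - v)) ≠ 0 ∧
      φ v ≠ 1 := by
    obtain ⟨f, h2, h3, h4⟩ := exists_phi _ h.hx hb
    have h5 := h2 _ (mem_span_singleton_self _)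
    rw [map_sub, sub_eq_zero] at h5
    by_cases h6 : f v = 1
    · exact ⟨t • f, by simp [h5], by simp [h3, ht0], mul_ne_zero ht0 h4, by simpa [h6]⟩
    · exact ⟨f, h5, h3, h4, h6⟩
  obtain ⟨R₁, R₂, hR₁, hR₂, hc, b1, b2⟩ := Blocks.exists_isCompl (μ := {X - 1}) h.blocks
  haveI := b2.finite
  have b3 : Blocks (1 : End F F) {X - 1} := by
    simpa using blocks_of_vector (f := (1 : End F F)) (monic_X_sub_C 1)
      (by rw [natDegree_X_sub_C, finrank_self]) (v := 1) (by simp)
      (.inr fun w => ⟨C w, by simp⟩)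
  have e := ((b3.sim b1).prodMap (.refl _)).trans (sim_restrict_prod hc hR₁ hR₂)
  let A' : End F K := A - (φ ∘ₗ (A - 1)).smulRight (A v)
  have hA' : ∀ z, A' z = A z - φ (A z - z) • A v := fun _ => rfl
  have hs : Step (A.prodMap 1) (v, 1 - φ v) (φ.coprod LinearMap.id) (LinearMap.id.prod (-φ)) A' :=
    ⟨fun a b e => congrArg Prod.fst e, fun z => ⟨fun e => ⟨z.1, Prod.ext rfl
      (neg_eq_of_add_eq_zero_right e)⟩, by rintro ⟨u, rfl⟩; simp⟩, by simp, by simp [e0],
      fun u => Prod.ext (by simp [hA', sub_eq_add_neg]) (by simp [hA', e0]; ring)⟩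
  have hd : LinearMap.det A' = LinearMap.det A := by simpa [det_prodMap] using hs.det_eq
  have hd2 := det_eq_one_of_blocks b2 h1
  have hd3 : LinearMap.det A = 1 := by
    simpa [det_eq_one_of_blocks h.blocks (by simpa using h1)] using h.det
  have hf := e.finrank_eq
  rw [finrank_prod, finrank_self] at hf
  have h7 : Cyc A' (A v) := fun U h2 h3 => h.cyc.map h.isUnit U h2 fun w hw => by
    rw [← sub_add_cancel (A w) (φ (A w - w) • A v), ← hA']
    exact add_mem (h3 w hw) (smul_mem _ _ h2)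
  have h8 : φ (A' (A v) - A v) ≠ 0 := by
    have : φ (A' (A v) - A v) = φ (A (A v - v)) * (1 - φ v) := by simp [hA', e0]; ring
    exact this ▸ mul_ne_zero e2 (sub_ne_zero.2 e3.symm)
  refine GoodP.of_split e (GoodP.step hg hs (by simpa) h.hy (x' := A v - v)
    (Prod.ext rfl (by simp [e0])) (H _ _ A' (A v) _ _ _ ν ⟨h.fin, h7, h.two, by rw [hd, hd2, hd3, one_mul],
      fun e => ?_, by simpa [sub_eq_add_neg] using e2, b2, fun P hP => h.pos P (by simp [hP]),
      fun _ e => ?_⟩ hν (by omega)))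
  · obtain ⟨s, hs⟩ := mem_span_singleton.1 e
    have h9 := congrArg φ hs
    rw [map_smul, map_sub φ (A v), e0, sub_self, smul_eq_zero, or_iff_left h8] at h9
    exact h.cyc.sub_ne h.two (by rw [← hs, h9, zero_smul])
  · obtain ⟨s, hs⟩ := mem_span_singleton.1 e
    obtain ⟨h9, h10⟩ := h7.det_eq h.two hs
    rw [← h10, hd, hd3, one_smul, eq_comm] at hs
    generalize A' (A v) - A v = m at hs h8
    rw [hA'] at hs
    have h11 : φ (A m - m) * (1 - φ v) = 0 := by
      have := congrArg φ hs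
      simp only [map_sub, map_smul, e0, smul_eq_mul] at this ⊢
      linear_combination this
    rw [(mul_eq_zero.1 h11).resolve_right (sub_ne_zero.2 e3.symm), zero_smul, sub_zero] at hs
    exact h8 (by rw [h.cyc.fix_eq_zero h9 hb hs, map_zero])

theorem exists_psi {P : F[X]} (hP : P.Monic) (h0 : P.coeff 0 ≠ 0) (hd : 0 < P.natDegree) :
    ∃ ψ : AdjoinRoot P →ₗ[F] F, ψ 1 = -(P.coeff 0)⁻¹ ∧ ψ (AdjoinRoot.root P ^ P.natDegree) = 1 ∧
      ∀ i, 0 < i → i < P.natDegree → ψ (AdjoinRoot.root P ^ i) = 0 := by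
  obtain ⟨ψ, key⟩ : ∃ ψ : AdjoinRoot P →ₗ[F] F, ∀ Q : F[X], Q.degree < P.degree →
      ψ (AdjoinRoot.mk P Q) = -(P.coeff 0)⁻¹ * Q.coeff 0 :=
    ⟨(-(P.coeff 0)⁻¹) • lcoeff F 0 ∘ₗ AdjoinRoot.modByMonicHom hP, fun Q hQ => by
      simp [(modByMonic_eq_self_iff hP).2 hQ]⟩
  have hd' : ∀ i < P.natDegree, (X ^ i : F[X]).degree < P.degree := fun i hi => by
    rw [degree_X_pow, degree_eq_natDegree hP.ne_zero]
    exact_mod_cast hi
  refine ⟨ψ, by simpa using key (X ^ 0) (hd' 0 hd), ?_, fun i h1 h2 => by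
    simpa [coeff_X_pow, h1.ne] using key _ (hd' i h2)⟩
  have h1 := key (X ^ P.natDegree - P) (by
    have := degree_sub_lt (p := X ^ P.natDegree) (q := P)
      (by rw [degree_X_pow, degree_eq_natDegree hP.ne_zero]) (pow_ne_zero _ X_ne_zero) (by simp [hP])
    rwa [degree_X_pow, ← degree_eq_natDegree hP.ne_zero] at this)
  rw [map_sub, AdjoinRoot.mk_self, sub_zero, map_pow, AdjoinRoot.mk_X] at h1
  rw [h1, coeff_sub, coeff_X_pow, if_neg hd.ne]
  field_simp
  simp

theorem St.step_block (hg : g.eval 1 ≠ 0) {P : F[X]} (h : St A v x y B (P ::ₘ ν)) (h1 : P ≠ X - 1)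
    (hν : ν ≤ μ) (hk : finrank F K + finrank F R = k + 1) (H : Level g μ k) : GoodP g A x y B := by
  haveI := h.fin
  haveI := h.blocks.finite
  have hP := h.blocks.monic P (by simp)
  have hd := h.pos P (by simp)
  haveI := hP.finite_adjoinRoot
  have h0 : P.coeff 0 ≠ 0 := h.blocks.isUnit_iff.1
    ((isUnit_iff_isUnit_det B).2 (IsUnit.of_mul_eq_one_right _ h.det)) P (by simp)
  obtain ⟨ψ, p0, p1, p2⟩ := exists_psi hP h0 hd
  obtain ⟨φ, e1, e2, e3⟩ := exists_phi_one (h.cyc.notMem h.two) h.hx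
  obtain ⟨A', x', hs, hx'⟩ := exists_step e1 e2
  obtain ⟨R₁, R₂, hR₁, hR₂, hc, b1, b2⟩ := Blocks.exists_isCompl (μ := {P}) h.blocks
  haveI := b2.finite
  have e := (((blocks_cyc hP).sim b1).prodMap (.refl _)).trans (sim_restrict_prod hc hR₁ hR₂)
  set r := AdjoinRoot.root P
  have hr : ∀ u, GLC.cyc P u = r * u := fun _ => rfl
  have hr1 : r - 1 ≠ 0 := fun e => h1 (eq_of_monic_of_dvd_of_natDegree_le hP (monic_X_sub_C 1)
    (AdjoinRoot.mk_eq_zero.1 (by simpa using e)) (by rw [natDegree_X_sub_C]; exact hd)).symm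
  let A₁ : End F (ker φ × AdjoinRoot P) := (A' ∘ₗ fst F _ _ -
    (ψ ∘ₗ GLC.cyc P ∘ₗ snd F _ _).smulRight x').prod (GLC.cyc P ∘ₗ snd F _ _)
  have hA₁ : ∀ z, A₁ z = (A' z.1 - ψ (r * z.2) • x', r * z.2) := fun _ => rfl
  let ι : (ker φ × AdjoinRoot P) →ₗ[F] (K × AdjoinRoot P) :=
    ((ker φ).subtype ∘ₗ fst F _ _ - (ψ ∘ₗ snd F _ _).smulRight v).prod (snd F _ _)
  have hι : ∀ z, ι z = (z.1.1 - ψ z.2 • v, z.2) := fun _ => rfl
  have hs₁ : Step (A.prodMap (GLC.cyc P)) (v, 0) (φ.coprod ψ) ι A₁ := by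
    refine ⟨fun a b e => ?_, fun z => ⟨fun e => ⟨(⟨z.1 + ψ z.2 • v, by simpa [e1] using e⟩, z.2),
      by simp [hι]⟩, by rintro ⟨u, rfl⟩; simp [hι, e1, mem_ker.1 u.1.2]⟩, by simp [e1], by simp [e2],
      fun u => Prod.ext ?_ (by simp [hι, hA₁, hr])⟩
    · simp only [hι, Prod.mk.injEq] at e
      exact Prod.ext (Subtype.ext (by simpa [e.2] using e.1)) e.2
    · have := hs.hS u.1
      simp only [subtype_apply] at this
      simp only [hι, hA₁, Submodule.coe_sub, Submodule.coe_smul, this, hx', prodMap_apply, map_sub, map_smul,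
        coprod_apply, e2, hr, Prod.fst_sub, Prod.smul_fst, smul_eq_mul]
      module
  have h6 := hs.finrank_eq
  have h7 := hs.cyc h.cyc hx'
  have hf := e.finrank_eq
  have hf1 : finrank F (ker φ × AdjoinRoot P) = finrank F (ker φ) + P.natDegree := by
    rw [finrank_prod, finrank_adjoinRoot]
  rw [finrank_prod, finrank_adjoinRoot] at hf
  have h2 := h.two
  have h8 : Cyc A₁ (0, 1) := fun U h3 h4 => by
    have h5 : ∀ i < P.natDegree, (0, r ^ i) ∈ U := fun i hi => by
      induction i with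
      | zero => simpa using h3
      | succ i ih => simpa [hA₁, ← pow_succ', p2 _ i.succ_pos hi] using h4 _ (ih (by omega))
    have h9 : ∀ u, (0, u) ∈ U := fun u => by
      have : ⊤ ≤ U.comap (inr F _ _) := by
        rw [← (AdjoinRoot.powerBasis' hP).basis.span_eq, span_le]
        rintro _ ⟨i, rfl⟩
        rw [PowerBasis.basis_eq_pow]
        exact h5 i i.2
      exact this mem_top
    have h10 : (x', 0) ∈ U := by
      have h11 := h4 _ (h9 (r ^ (P.natDegree - 1)))
      rw [hA₁, ← pow_succ', Nat.sub_add_cancel hd, p1] at h11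
      simpa using sub_mem (h9 (r ^ P.natDegree)) h11
    have h11 := h7 (U.comap (inl F _ _)) h10 fun w hw => by simpa [hA₁] using h4 _ hw
    refine eq_top_iff.2 fun z _ => ?_
    simpa using add_mem (show (z.1, 0) ∈ U from h11.ge (mem_top (x := z.1))) (h9 z.2)
  have hd1 : LinearMap.det A₁ * LinearMap.det (B.restrict hR₂) = 1 := by
    rw [hs₁.det_eq, det_prodMap, mul_assoc, ← det_prodMap, e.det_eq, h.det]
  refine GoodP.of_split e (GoodP.step hg hs₁ (by simpa) h.hy (x' := (x', 0)) (by simp [hι, hx'])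
    (H _ _ A₁ (0, 1) _ _ _ ν ⟨hs₁.finite, h8, by omega, hd1, fun e => ?_, ?_, b2,
      fun P hP => h.pos P (by simp [hP]), fun h9 e => ?_⟩ hν (by omega)))
  · obtain ⟨s, hs⟩ := mem_span_singleton.1 e
    have h9 : s • (r - 1) = 0 := by simpa [hA₁] using congrArg Prod.snd hs
    rw [(smul_eq_zero.1 h9).resolve_right hr1, zero_smul] at hs
    exact h.cyc.sub_ne h.two (by rw [← hx', ← (Prod.mk.inj hs).1]; rfl)
  · simp only [comp_apply, hι, prodMap_apply, coprod_apply, hr, p0, ZeroMemClass.coe_zero, zero_sub,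
      neg_smul, neg_neg, map_smul, e2, mul_one, smul_eq_mul]
    rcases (Nat.succ_le_of_lt hd).eq_or_lt with h9 | h9
    · rw [← h9, pow_one] at p1
      rw [p1]
      intro e
      refine h1 ((hP.eq_X_add_C h9.symm).trans ?_)
      rw [← inv_inv (P.coeff 0), eq_neg_of_add_eq_zero_left e]
      simp [sub_eq_add_neg]
    · have := p2 1 one_pos h9
      rw [pow_one] at this
      simpa [this] using h0
  · obtain ⟨s, hs⟩ := mem_span_singleton.1 e
    obtain ⟨h10, h11⟩ := h8.det_eq (by omega) hs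
    rw [det_eq_one_of_blocks b2 h9, mul_one, h11] at hd1
    have h12 : AdjoinRoot.mk P ((X - 1) ^ 2) = 0 := by
      have : r - 1 = r * (r - 1) := by simpa [hA₁, hd1] using congrArg Prod.snd hs
      simp only [map_pow, map_sub, AdjoinRoot.mk_X, map_one]
      linear_combination -this
    have h13 : Prime P := (irreducible_of_degree_eq_one
      (by rw [degree_eq_natDegree hP.ne_zero]; exact_mod_cast (by omega : P.natDegree = 1))).prime
    exact hr1 (by simpa using
      AdjoinRoot.mk_eq_zero.2 (h13.dvd_of_dvd_pow (AdjoinRoot.mk_eq_zero.1 h12)))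

/-- All levels above a good level are good. -/
theorem Level.chain (hg : g.eval 1 ≠ 0) {m : ℕ} (hm : 2 ≤ m)
    (h4 : m = 2 → ∀ a b c : F, ∃ t, t ≠ a ∧ t ≠ b ∧ t ≠ c) (h3 : X - 1 ∈ μ → ∃ t : F, t ≠ 0 ∧ t ≠ 1)
    (H : Level g μ m) (hk : m ≤ k) : Level g μ k := by
  induction k, hk using Nat.le_induction with
  | base => exact H
  | succ k hk ih =>
    intro K R _ _ _ _ A v x y B ν h hν e
    by_cases h1 : ∃ P ∈ ν, P ≠ X - 1
    · obtain ⟨P, hP, h1⟩ := h1
      obtain ⟨ν, rfl⟩ := Multiset.exists_cons_of_mem hP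
      exact h.step_block hg h1 ((Multiset.le_cons_self _ _).trans hν) e ih
    push Not at h1
    rcases ν.empty_or_exists_mem with rfl | ⟨P, hP⟩
    · have h2 : finrank F R = 0 := by simpa using h.blocks.finrank_eq
      rcases (show 3 ≤ finrank F K by omega).eq_or_lt with h5 | h5
      · exact h.step_three hg h5.symm (h4 (by omega)) hν e ih
      · exact h.step_four hg h5 hν e ih
    · obtain rfl := h1 P hP
      obtain ⟨t, ht0, ht1⟩ := h3 (Multiset.mem_of_le hν hP)
      obtain ⟨ν, rfl⟩ := Multiset.exists_cons_of_mem hP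
      exact h.step_one hg (fun P hP => h1 P (by simp [hP])) ht0 ht1
        ((Multiset.le_cons_self _ _).trans hν) e ih

end Cfsg.Lib.Ore
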