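import Cfsg.Agent.Lib.Ore.Top

/-!
# Endomorphisms of determinant one as commutators
-/

set_option autoImplicit false

namespace Cfsg.Lib.Ore

open Module Polynomial LinearMap Cfsg.Lib.GLC Submodule Matrix

universe u

variable {F W W' : Type u} [Field F] [AddCommGroup W] [Module F W] [AddCommGroup W'] [Module F W']
  {S : End F W} {T : End F W'} {μ : Multiset F[X]}

/-- `S = p c p⁻¹ c⁻¹` with `p`, `c` of determinant one. -/
def Comm (S : End F W) : Prop :=
  ∃ p c : End F W, LinearMap.det p = 1 ∧ LinearMap.det c = 1 ∧ S * c * p = p * c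

theorem Comm.of_sim (h : Comm T) (e : Sim S T) : Comm S := by
  obtain ⟨p, c, h1, h2, h3⟩ := h
  obtain ⟨u, rfl⟩ := sim_iff.1 e.symm
  exact ⟨u.conjAlgEquiv F p, u.conjAlgEquiv F c, (sim_conj u p).det_eq ▸ h1, (sim_conj u c).det_eq ▸ h2,
    by rw [← map_mul, ← map_mul, ← map_mul, h3]⟩

theorem Comm.prodMap [Module.Finite F W] [Module.Finite F W'] (h : Comm S) (h' : Comm T) :
    Comm (S.prodMap T) := by
  obtain ⟨p, c, h1, h2, h3⟩ := h
  obtain ⟨p', c', h4, h5, h6⟩ := h'
  exact ⟨p.prodMap p', c.prodMap c', by rw [det_prodMap, h1, h4, one_mul],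
    by rw [det_prodMap, h2, h5, one_mul], by rw [prodMap_mul, prodMap_mul, prodMap_mul, h3, h6]⟩

theorem comm_one : Comm (1 : End F W) := ⟨1, 1, map_one _, map_one _, by simp⟩

theorem comm_of_sim [Module.Finite F W] {c : End F W} (h : Sim c (S * c)) (hc : LinearMap.det c = 1)
    (hd : detC c = ⊤) : Comm S := by
  obtain ⟨e, he⟩ := h
  obtain ⟨a, h1, h2⟩ := hd.ge (Subgroup.mem_top (LinearEquiv.det e)⁻¹)
  have h3 : S * c * e = e * c := LinearMap.ext fun v => (he v).symm
  refine ⟨e * a, c, ?_, hc, by rw [← mul_assoc, h3, mul_assoc, mul_assoc, h1.eq]⟩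
  rw [map_mul, h2, ← LinearEquiv.coe_det, Units.mul_inv]

theorem Fac.comm [Finite F] {φ h : F[X]} {j : ℕ} (H : Fac S ((X - 1) ^ j * (φ * h))) (h1 : φ.Monic)
    (h2 : Irreducible φ) (h3 : h.Monic) (h4 : φ.eval 1 ≠ 0) (h5 : IsCoprime φ h)
    (h6 : (-1) ^ (φ * h).natDegree * (φ * h).coeff 0 = 1) : Comm S := by
  obtain ⟨c, b1, b2⟩ := H
  haveI := b1.finite
  have h7 : ((X - 1 : F[X]) ^ j).Monic := (monic_X_sub_C 1).pow j
  refine comm_of_sim (b1.sim b2) ?_ (detC_eq_top (Blocks.split (P := φ) (Q := (X - 1) ^ j * h) (μ := 0)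
    (by rwa [mul_left_comm]) h1 (h7.mul h3) (IsCoprime.mul_right (IsCoprime.pow_right
      ((irreducible_X_sub_C (1 : F)).coprime_iff_not_dvd.2 fun e => h4 (dvd_iff_isRoot.1 e)).symm) h5))
    h2 (by simp))
  have h8 := b1.finrank_eq
  rw [Multiset.map_singleton, Multiset.sum_singleton, h7.natDegree_mul (h1.mul h3), ← C_1,
    natDegree_pow, natDegree_X_sub_C, mul_one] at h8
  rw [b1.det_eq, h8, Multiset.map_singleton, Multiset.prod_singleton, mul_coeff_zero,
    coeff_zero_eq_eval_zero (_ ^ j)]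
  simp only [eval_pow, eval_sub, eval_X, eval_one, zero_sub, pow_add]
  rw [mul_mul_mul_comm, h6, ← mul_pow]
  simp

theorem sim_smul_one [Module.Finite F W] [Module.Finite F W'] (h : finrank F W = finrank F W') (c : F) :
    Sim (c • 1 : End F W) (c • 1 : End F W') :=
  ⟨LinearEquiv.ofFinrankEq _ _ h, fun v => by simp⟩

theorem comm_smul_one [Finite F] [Module.Finite F W] {z : F} (h : z ^ finrank F W = 1) :
    Comm (z • 1 : End F W) := by
  cases nonempty_fintype F
  rcases (finrank F W).eq_zero_or_pos with h0 | h0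
  · haveI := finrank_zero_iff.1 h0
    exact Subsingleton.elim (1 : End F W) (z • 1) ▸ comm_one
  have hz : z ≠ 0 := fun e => by simp [e, h0.ne'] at h
  obtain ⟨r, hr⟩ := orderOf_dvd_of_pow_eq_one h
  have hm : 0 < orderOf z := (isOfFinOrder_iff_pow_eq_one.2 ⟨_, h0, h⟩).orderOf_pos
  have hm' : ((orderOf z : ℕ) : F) ≠ 0 := fun e => by
    obtain ⟨k, hk⟩ := orderOf_dvd_of_pow_eq_one (FiniteField.pow_card_sub_one_eq_one z hz)
    have := congrArg (Nat.cast : ℕ → F) hk
    rw [Nat.cast_pred Fintype.card_pos, FiniteField.cast_card_eq_zero, Nat.cast_mul, e] at this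
    simp at this
  have h1 := pow_orderOf_eq_one z
  generalize orderOf z = m at hr hm hm' h1
  have hP : (X ^ m - C (-(-1) ^ m) : F[X]).Monic := monic_X_pow_sub_C _ hm.ne'
  haveI := hP.finite_adjoinRoot
  have hd := finrank_adjoinRoot (X ^ m - C (-(-1) ^ m) : F[X])
  rw [natDegree_X_pow_sub_C] at hd
  have b1 := blocks_cyc hP
  have h2 := (b1.pow_eq_smul_one_iff (m := m) (c := -(-1) ^ m)).2 fun Q hQ => by
    rw [Multiset.mem_singleton.1 hQ]
  set c := GLC.cyc (X ^ m - C (-(-1) ^ m) : F[X])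
  haveI := nontrivial_of_finrank_pos (hd ▸ hm)
  have h3 : Comm (z • 1 : End F (AdjoinRoot (X ^ m - C (-(-1) ^ m) : F[X]))) := by
    refine comm_of_sim (b1.sim (blocks_of_vector hP (finrank_adjoinRoot _).symm (v := 1) ?_
      (.inr (Cyc.exists_aeval fun U h3 h4 => cyc_one _ U h3 fun w hw => ?_)))) ?_
      (detC_eq_top_of_isSemisimple (isSemisimple_of_pow_eq hm' (by simp) h2))
    · rw [map_sub, aeval_X_pow, aeval_C, smul_one_mul, _root_.smul_pow, h1, h2, one_smul,
        Algebra.algebraMap_eq_smul_one, sub_self, LinearMap.zero_apply]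
    · simpa [hz] using smul_mem U z⁻¹ (h4 w hw)
    · rw [b1.det_eq, hd, Multiset.map_singleton, Multiset.prod_singleton, coeff_sub, coeff_C_zero]
      simp [coeff_X_pow, hm.ne, ← mul_pow]
  clear h h0
  induction r generalizing W with
  | zero =>
    haveI := finrank_zero_iff.1 hr
    exact Subsingleton.elim (1 : End F W) (z • 1) ▸ comm_one
  | succ r ih =>
    refine (h3.prodMap (ih (W := Fin (m * r) → F) (by simp))).of_sim ?_
    rw [prodMap_smul, prodMap_one]
    exact sim_smul_one (by rw [finrank_prod, hd, hr, finrank_fin_fun]; ring) z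

theorem sim_of_indep [Module.Finite F W] {n : ℕ} {b : Fin n → W} (hb : LinearIndependent F b)
    (hn : finrank F W = n) {M : Matrix (Fin n) (Fin n) F} (h : ∀ i, S (b i) = ∑ j, M j i • b j) :
    Sim S (toLin' M) := by
  let B := Basis.mk hb (hb.span_eq_top_of_card_eq_finrank' (by simp [hn])).ge
  have : S ∘ₗ B.equivFun.symm.toLinearMap = B.equivFun.symm.toLinearMap ∘ₗ toLin' M :=
    (Pi.basisFun F _).ext fun i => by simp [B, h, Pi.single_apply]
  exact Sim.symm ⟨B.equivFun.symm, fun v => (LinearMap.congr_fun this v).symm⟩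

variable {v : W}

theorem Cyc.sim_two [Module.Finite F W] (h : Cyc S v) (h2 : finrank F W = 2) :
    ∃ t, Sim S (toLin' !![0, -LinearMap.det S; 1, t]) := by
  obtain ⟨a, t, h1⟩ := h.exists_two h2 (S (S v))
  have h3 : Sim S (toLin' !![0, a; 1, t]) :=
    sim_of_indep (h.indep2 h2.ge) h2 fun i => by fin_cases i <;> simp [h1.symm]
  exact ⟨t, by simpa [h3.det_eq] using h3⟩

theorem Cyc.sim_three [Module.Finite F W] (h : Cyc S v) (h3 : finrank F W = 3) :
    ∃ a b, Sim S (toLin' !![0, 0, LinearMap.det S; 1, 0, b; 0, 1, a]) := by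
  have h1 : LinearIndependent F ![v, S v, S (S v)] := by
    convert (h.indep2 (by omega)).finSnoc (x := S (S v)) fun e => by
      obtain ⟨c, hc⟩ := (mem_span_range_iff_exists_fun F).1 e
      exact h.lin2 h3.ge (c 0) (c 1) (by simpa using hc.symm) using 1
    exact funext fun i => by fin_cases i <;> rfl
  obtain ⟨c, hc⟩ := (mem_span_range_iff_exists_fun F).1
    ((h1.span_eq_top_of_card_eq_finrank' (by simp [h3])).ge (mem_top (x := S (S (S v)))))
  have h4 : Sim S (toLin' !![0, 0, c 0; 1, 0, c 1; 0, 1, c 2]) :=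
    sim_of_indep h1 h3 fun i => by fin_cases i <;> simp [Fin.sum_univ_three, ← hc]
  exact ⟨c 2, c 1, by simpa [h4.det_eq, det_fin_three] using h4⟩

theorem sim_two_one (a b c d e : F) :
    Sim ((toLin' !![a, b; c, d]).prodMap (e • 1 : End F F)) (toLin' !![a, b, 0; c, d, 0; 0, 0, e]) :=
  sim_of_indep (b := ![(![1, 0], 0), (![0, 1], 0), (0, 1)]) (Fintype.linearIndependent_iff.2 fun g hg i => by
    simp only [Fin.sum_univ_three, cons_val, Prod.ext_iff, funext_iff, Fin.forall_fin_two] at hg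
    fin_cases i <;> simp_all) (by simp) fun i => by
      fin_cases i <;> simp [Fin.sum_univ_three, funext_iff, vecHead, vecTail]

theorem Comm.two_one [Module.Finite F W'] {t : F} (h : Comm (toLin' !![0, -1, 0; 1, t, 0; 0, 0, 1]))
    (e : Sim S (toLin' !![0, -1; 1, t])) (h1 : 0 < finrank F W') : Comm (S.prodMap (1 : End F W')) := by
  have h2 : Sim (1 : End F W') (((1 : F) • 1 : End F F).prodMap (1 : End F (Fin (finrank F W' - 1) → F))) := by
    rw [one_smul, prodMap_one]
    simpa using sim_smul_one (W := W') (W' := F × (Fin (finrank F W' - 1) → F))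
      (by rw [finrank_prod, finrank_self, finrank_fin_fun]; omega) (1 : F)
  exact ((h.of_sim (sim_two_one _ _ _ _ _)).prodMap comm_one).of_sim
    ((e.prodMap h2).trans (sim_prodAssoc _ _ _).symm)

theorem comm_of_level [Finite F] [Module.Finite F W] {φ h : F[X]} (h1 : φ.Monic) (h2 : Irreducible φ)
    (h3 : h.Monic) (h4 : (φ * h).eval 1 ≠ 0) (h5 : IsCoprime φ h)
    (h6 : (-1) ^ (φ * h).natDegree * (φ * h).coeff 0 = 1) {m : ℕ} (hm : 2 ≤ m) (hm3 : m ≤ 3)
    (hF : m = 2 → ∀ a b c : F, ∃ t, t ≠ a ∧ t ≠ b ∧ t ≠ c)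
    (H : ∀ μ : Multiset F[X], X - 1 ∉ μ → Level (φ * h) μ m)
    (H2 : ∀ t : F, Comm (toLin' !![0, -1; 1, t]) ∨
      3 ≤ finrank F W ∧ Comm (toLin' !![0, -1, 0; 1, t, 0; 0, 0, 1]))
    (hd : LinearMap.det S = 1) : Comm S := by
  classical
  have b0 := blocks_typ S
  rw [← Multiset.filter_add_not (· ≠ X - 1) (typ S)] at b0
  obtain ⟨A, B, hA, hB, hc, b1, b2⟩ := b0.exists_isCompl
  have e := sim_restrict_prod hc hA hB
  rw [eq_smul_one_of_blocks (c := 1) b2 (by simp +contextual), one_smul] at e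
  refine Comm.of_sim ?_ e.symm
  have d1 : LinearMap.det (S.restrict hA) = 1 := by simpa [det_prodMap, hd] using e.det_eq
  have f1 := e.finrank_eq
  rw [finrank_prod] at f1
  generalize S.restrict hA = S₀ at b1 d1
  by_cases h7 : ∃ c : F, S₀ = c • 1
  · obtain ⟨c, rfl⟩ := h7
    exact (comm_smul_one (by simpa using d1)).prodMap comm_one
  push Not at h7
  have h0 : ∀ Q ∈ (typ S).filter (· ≠ X - 1), 0 < Q.natDegree := fun Q hQ =>
    (typ_pp S Q (Multiset.mem_of_mem_filter hQ)).natDegree_pos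
  obtain ⟨P, ν, h8, b3, h9⟩ := exists_blocks_two b1 h0 h7
  have h10 : X - 1 ∉ ν := fun e => by simpa using Multiset.mem_of_le h8 e
  have h11 := fun Q hQ => h0 Q (Multiset.mem_of_le h8 hQ)
  have h12 := natDegree_le_of_mem b3 (Multiset.mem_cons_self _ _)
  rcases (h9.trans h12).eq_or_lt with h13 | h13
  · have h14 := b3.finrank_eq
    obtain rfl : ν = 0 := Multiset.eq_zero_of_forall_notMem fun Q hQ => by
      have := Multiset.single_le_sum (s := ν.map natDegree) (by simp) _ (Multiset.mem_map_of_mem _ hQ)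
      have := h11 Q hQ
      rw [Multiset.map_cons, Multiset.sum_cons] at h14
      omega
    have hP := b3.monic P (by simp)
    haveI := hP.finite_adjoinRoot
    have e1 := b3.sim (blocks_cyc hP)
    obtain ⟨t, e2⟩ := (cyc_one P).sim_two (e1.finrank_eq ▸ h13.symm)
    rw [← e1.det_eq, d1] at e2
    rcases H2 t with h15 | ⟨h15, h16⟩
    · exact (h15.of_sim (e1.trans e2)).prodMap comm_one
    · exact h16.two_one (e1.trans e2) (by omega)
  · obtain ⟨j, -, h14⟩ := Level.fac (h1.mul h3) b3 h9 h11 d1 (fun h14 e => by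
      obtain rfl : ν = 0 := Multiset.eq_zero_of_forall_notMem fun Q hQ => h10 (h14 Q hQ ▸ hQ)
      have := b3.finrank_eq
      rw [Multiset.map_cons, Multiset.sum_cons, e, ← C_1, natDegree_pow, natDegree_X_sub_C] at this
      simp at this
      omega) (Level.chain h4 hm hF (fun e => (h10 e).elim) (H ν h10) (by omega))
    exact (h14.comm h1 h2 h3 (left_ne_zero_of_mul (by rwa [← eval_mul])) h5 h6).prodMap comm_one

end Cfsg.Lib.Ore
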