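import Cfsg.Agent.Lib.Ore.Good

/-!
# Cyclic vectors and the three kinds of elimination steps
-/

set_option autoImplicit false

namespace Cfsg.Lib.Ore

open Module Polynomial LinearMap Cfsg.Lib.GLC Submodule

variable {F K K' R : Type*} [Field F] [AddCommGroup K] [Module F K] [AddCommGroup K'] [Module F K']
  [AddCommGroup R] [Module F R]

/-- `v` is a cyclic vector of `A`. -/
def Cyc (A : End F K) (v : K) : Prop :=
  ∀ U : Submodule F K, v ∈ U → (∀ w ∈ U, A w ∈ U) → U = ⊤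

variable {A : End F K} {v : K}

theorem Cyc.finrank_le (h : Cyc A v) {n : ℕ} (b : Fin n → K) (h1 : v ∈ span F (Set.range b))
    (h2 : ∀ i, A (b i) ∈ span F (Set.range b)) : finrank F K ≤ n := by
  have h3 := h _ h1 fun w hw => (Submodule.map_span_le A _ _).2 (by rintro _ ⟨i, rfl⟩; exact h2 i) ⟨w, hw, rfl⟩
  have h4 := finrank_range_le_card (R := F) b
  rwa [Set.finrank, h3, finrank_top, Fintype.card_fin] at h4

theorem Cyc.lin1 (h : Cyc A v) (h2 : 2 ≤ finrank F K) (a : F) : A v ≠ a • v := fun e => by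
  have h0 : v ∈ span F (Set.range ![v]) := subset_span ⟨0, rfl⟩
  have := h.finrank_le ![v] h0 fun i => by
    fin_cases i
    exact e ▸ smul_mem _ _ h0
  omega

theorem Cyc.lin2 (h : Cyc A v) (h2 : 3 ≤ finrank F K) (a b : F) : A (A v) ≠ a • v + b • A v :=
  fun e => by
  have h0 : v ∈ span F (Set.range ![v, A v]) := subset_span ⟨0, rfl⟩
  have h1 : A v ∈ span F (Set.range ![v, A v]) := subset_span ⟨1, rfl⟩
  have := h.finrank_le ![v, A v] h0 fun i => by
    fin_cases i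
    · exact h1
    · exact e ▸ add_mem (smul_mem _ _ h0) (smul_mem _ _ h1)
  omega

theorem Cyc.lin3 (h : Cyc A v) (h2 : 4 ≤ finrank F K) (a b c : F) :
    A (A (A v)) ≠ a • v + b • A v + c • A (A v) := fun e => by
  have h0 : v ∈ span F (Set.range ![v, A v, A (A v)]) := subset_span ⟨0, rfl⟩
  have h1 : A v ∈ span F (Set.range ![v, A v, A (A v)]) := subset_span ⟨1, rfl⟩
  have h3 : A (A v) ∈ span F (Set.range ![v, A v, A (A v)]) := subset_span ⟨2, rfl⟩
  have := h.finrank_le ![v, A v, A (A v)] h0 fun i => by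
    fin_cases i
    · exact h1
    · exact h3
    · exact e ▸ add_mem (add_mem (smul_mem _ _ h0) (smul_mem _ _ h1)) (smul_mem _ _ h3)
  omega

theorem Cyc.sub_ne (h : Cyc A v) (h2 : 2 ≤ finrank F K) : A v - v ≠ 0 :=
  sub_ne_zero.2 (by simpa using h.lin1 h2 1)

theorem Cyc.ne_zero (h : Cyc A v) (h2 : 2 ≤ finrank F K) : v ≠ 0 := fun e => h.sub_ne h2 (by simp [e])

theorem Cyc.notMem (h : Cyc A v) (h2 : 2 ≤ finrank F K) : v ∉ span F {A v - v} := fun e => by
  obtain ⟨s, hs⟩ := mem_span_singleton.1 e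
  have h0 : s ≠ 0 := fun e => h.ne_zero h2 (by simpa [e] using hs.symm)
  refine h.lin1 h2 (1 + s⁻¹) (smul_right_injective _ h0 ?_)
  simp only [smul_smul, mul_add, mul_inv_cancel₀ h0]
  linear_combination (norm := module) hs

theorem Cyc.beta (h : Cyc A v) (h2 : 3 ≤ finrank F K) : A (A v - v) ∉ span F {A v - v} := fun e => by
  obtain ⟨s, hs⟩ := mem_span_singleton.1 e
  refine h.lin2 h2 (-s) (1 + s) ?_
  rw [map_sub] at hs
  linear_combination (norm := module) -hs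

theorem Cyc.indep2 (h : Cyc A v) (h2 : 2 ≤ finrank F K) : LinearIndependent F ![v, A v] :=
  (LinearIndependent.pair_iff' (h.ne_zero h2)).2 fun a e => h.lin1 h2 a e.symm

theorem Cyc.exists_two [Module.Finite F K] (h : Cyc A v) (h2 : finrank F K = 2) (z : K) :
    ∃ a b : F, z = a • v + b • A v := by
  have h1 := (h.indep2 h2.ge).span_eq_top_of_card_eq_finrank' (by simp [h2])
  obtain ⟨c, hc⟩ := (mem_span_range_iff_exists_fun F).1 (h1.ge (mem_top (x := z)))
  exact ⟨c 0, c 1, by simpa using hc.symm⟩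

theorem Cyc.fix_eq_zero [Module.Finite F K] (h : Cyc A v) (h2 : finrank F K = 2)
    (hb : A (A v - v) ∉ span F {A v - v}) {z : K} (hz : A z = z) : z = 0 := by
  obtain ⟨a, b, rfl⟩ := h.exists_two h2 z
  simp only [map_add, map_smul] at hz
  have h3 : b = 0 := by
    by_contra h3
    refine hb (mem_span_singleton.2 ⟨-(a / b), smul_right_injective _ h3 ?_⟩)
    simp only [smul_smul, mul_neg, mul_div_cancel₀ _ h3, map_sub]
    linear_combination (norm := module) -hz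
  have h4 : a • (A v - v) = 0 := by
    rw [h3] at hz
    linear_combination (norm := module) hz
  simp [h3, (smul_eq_zero.1 h4).resolve_right (h.sub_ne h2.ge)]

theorem Cyc.exists_aeval (h : Cyc A v) (w : K) : ∃ Q : F[X], aeval A Q v = w :=
  (h (range (applyₗ v ∘ₗ (aeval A).toLinearMap)) ⟨1, by simp⟩
    (by rintro _ ⟨Q, rfl⟩; exact ⟨X * Q, by simp⟩)).ge trivial

theorem Cyc.det_eq [Module.Finite F K] (h : Cyc A v) (h2 : 2 ≤ finrank F K) {c : F}
    (hc : c • (A v - v) = A (A v - v)) : finrank F K = 2 ∧ LinearMap.det A = c := by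
  have h3 : finrank F K = 2 := by
    by_contra h3
    exact h.beta (by omega) (mem_span_singleton.2 ⟨c, hc⟩)
  have h4 : Blocks A {(X - C c) * (X - C 1)} :=
    blocks_of_vector ((monic_X_sub_C c).mul (monic_X_sub_C 1)) (v := v)
      (by rw [(monic_X_sub_C c).natDegree_mul (monic_X_sub_C 1), h3, natDegree_X_sub_C,
        natDegree_X_sub_C]) (by simp [← hc, Algebra.algebraMap_eq_smul_one]) (.inr h.exists_aeval)
  exact ⟨h3, by simp [h4.det_eq, h3]⟩

theorem Cyc.map [Module.Finite F K] (h : Cyc A v) (hA : IsUnit A) : Cyc A (A v) := fun U h1 h2 => by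
  have h3 := ((End.isUnit_iff _).1 hA).1
  have h4 : Function.Injective (A.restrict h2) := fun a b e => Subtype.ext (h3 (congrArg Subtype.val e))
  obtain ⟨u, hu⟩ := injective_iff_surjective.1 h4 ⟨_, h1⟩
  exact h U (h3 (congrArg Subtype.val hu) ▸ u.2) h2

variable {φ : K →ₗ[F] F} {ι : K' →ₗ[F] K} {A' : End F K'}

theorem Step.cyc (h : Step A v φ ι A') (hc : Cyc A v) {x' : K'} (hx : ι x' = A v - v) : Cyc A' x' :=
  fun U h1 h2 => by
  have h0 : v ∈ U.map ι ⊔ span F {v} := mem_sup_right (mem_span_singleton_self v)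
  have h3 : A v ∈ U.map ι ⊔ span F {v} := by
    rw [← sub_add_cancel (A v) v, ← hx]
    exact add_mem (mem_sup_left ⟨_, h1, rfl⟩) h0
  have h4 := hc _ h0 fun w hw => by
    obtain ⟨_, ⟨u, hu, rfl⟩, z, hz, rfl⟩ := mem_sup.1 hw
    obtain ⟨s, rfl⟩ := mem_span_singleton.1 hz
    rw [map_add, map_smul, ← sub_add_cancel (A (ι u)) (φ (A (ι u)) • A v), ← h.hS]
    exact add_mem (add_mem (mem_sup_left ⟨_, h2 u hu, rfl⟩) (smul_mem _ _ h3)) (smul_mem _ _ h3)
  refine eq_top_iff.2 fun u _ => ?_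
  obtain ⟨_, ⟨u', hu, rfl⟩, z, hz, e⟩ := mem_sup.1 (h4.ge (mem_top (x := ι u)))
  obtain ⟨s, rfl⟩ := mem_span_singleton.1 hz
  have h5 := congrArg φ e
  rw [map_add, map_smul, h.hv, (h.ker _).2 ⟨u, rfl⟩, (h.ker _).2 ⟨u', rfl⟩] at h5
  have h6 : s = 0 := by simpa using h5
  rw [h6, zero_smul, add_zero] at e
  exact h.inj e ▸ hu

theorem exists_step (h1 : φ v = 1) (h2 : φ (A v) = 1) :
    ∃ (A' : End F (ker φ)) (x' : ker φ), Step A v φ (ker φ).subtype A' ∧ x'.1 = A v - v :=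
  ⟨codRestrict _ ((A - (φ ∘ₗ A).smulRight (A v)) ∘ₗ (ker φ).subtype) fun u => by simp [h2],
    ⟨A v - v, by simp [h1, h2]⟩, ⟨Subtype.val_injective, fun z => ⟨fun h => ⟨⟨z, h⟩, rfl⟩,
      fun ⟨u, hu⟩ => hu ▸ u.2⟩, h1, h2, fun _ => rfl⟩, rfl⟩

theorem Step.prod (h : Step A v φ ι A') (B : End F R) : Step (A.prodMap B) (v, 0) (φ ∘ₗ fst F K R)
    (ι.prodMap LinearMap.id) (A'.prodMap B) :=
  ⟨fun a b e => Prod.ext (h.inj (congrArg Prod.fst e)) (congrArg Prod.snd e :),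
    fun z => (h.ker z.1).trans ⟨fun ⟨u, hu⟩ => ⟨(u, z.2), Prod.ext hu rfl⟩,
      fun ⟨u, hu⟩ => ⟨u.1, congrArg Prod.fst hu⟩⟩, h.hv, h.hSv,
    fun u => Prod.ext (h.hS u.1) (by simp)⟩

/-- `Good` for a direct sum whose second summand is not seen by `x` and `y`. -/
def GoodP (g : F[X]) (A : End F K) (x : K) (y : K →ₗ[F] F) (B : End F R) : Prop :=
  Good g (A.prodMap B) (x, 0) (y ∘ₗ fst F K R)

theorem GoodP.step [Module.Finite F K] [Module.Finite F R] {g : F[X]} (hg : g.eval 1 ≠ 0)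
    (h : Step A v φ ι A') {x : K} {y : K →ₗ[F] F} (hx : φ x ≠ 0) (hy : y v ≠ 0) {x' : K'}
    (hx' : ι x' = A v - v) {B : End F R} (H : GoodP g A' x' (φ ∘ₗ A ∘ₗ ι) B) : GoodP g A x y B :=
  Good.step hg (h.prod B) hx hy (x' := (x', 0)) (Prod.ext hx' (by simp)) (fun _ => rfl) H

theorem GoodP.of_split {R₁ R₂ : Type*} [AddCommGroup R₁] [Module F R₁] [AddCommGroup R₂] [Module F R₂]
    {g : F[X]} {x : K} {y : K →ₗ[F] F} {B : End F R} {B₁ : End F R₁} {B₂ : End F R₂}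
    (e : Sim (B₁.prodMap B₂) B) (H : GoodP g (A.prodMap B₁) (x, 0) (y ∘ₗ fst F K R₁) B₂) :
    GoodP g A x y B := by
  obtain ⟨e, he⟩ := e
  exact Good.of_equiv H ((LinearEquiv.prodAssoc F K R₁ R₂).trans ((LinearEquiv.refl F K).prodCongr e))
    (fun z => Prod.ext rfl (he (z.1.2, z.2))) (Prod.ext rfl (map_zero e)) fun _ => rfl

theorem exists_phi (U : Submodule F K) {a b : K} (ha : a ∉ U) (hb : b ∉ U) :
    ∃ φ : K →ₗ[F] F, (∀ u ∈ U, φ u = 0) ∧ φ a ≠ 0 ∧ φ b ≠ 0 := by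
  obtain ⟨f, h1, h2⟩ := U.exists_le_ker_of_notMem ha
  obtain ⟨g, h3, h4⟩ := U.exists_le_ker_of_notMem hb
  by_cases h5 : f b = 0
  · by_cases h6 : g a = 0
    · exact ⟨f + g, fun u hu => by simp [mem_ker.1 (h2 hu), mem_ker.1 (h4 hu)], by simpa [h6],
        by simpa [h5]⟩
    · exact ⟨g, h4, h6, h3⟩
  · exact ⟨f, h2, h1, h5⟩

theorem exists_phi_one {x : K} (ha : v ∉ span F {A v - v}) (hb : x ∉ span F {A v - v}) :
    ∃ φ : K →ₗ[F] F, φ v = 1 ∧ φ (A v) = 1 ∧ φ x ≠ 0 := by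
  obtain ⟨f, h1, h2, h3⟩ := exists_phi _ ha hb
  have h4 := h1 _ (mem_span_singleton_self _)
  rw [map_sub, sub_eq_zero] at h4
  exact ⟨(f v)⁻¹ • f, by simp [h2], by simp [h2, h4], by simp [h2, h3]⟩

theorem Cyc.exists_phi_four (h : Cyc A v) (h4 : 4 ≤ finrank F K) {x : K} (hx : x ∉ span F {A v - v}) :
    ∃ φ : K →ₗ[F] F, φ v = 1 ∧ φ (A v) = 1 ∧ φ x ≠ 0 ∧
      (φ (A (A v - v)) ≠ 0 ∨ φ (A (A (A v - v))) ≠ 0) := by
  obtain ⟨f, h1, h2, h3⟩ := exists_phi_one (h.notMem (by omega)) hx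
  by_cases h5 : f (A (A v - v)) ≠ 0 ∨ f (A (A (A v - v))) ≠ 0
  · exact ⟨f, h1, h2, h3, h5⟩
  push Not at h5
  have h6 : A (A v - v) ∉ span F (Set.range ![v, A v, x]) ∨
      A (A (A v - v)) ∉ span F (Set.range ![v, A v, x]) := by
    by_contra h6
    push Not at h6
    obtain ⟨c, hc⟩ := (mem_span_range_iff_exists_fun F).1 h6.1
    obtain ⟨d, hd⟩ := (mem_span_range_iff_exists_fun F).1 h6.2
    simp only [Fin.sum_univ_three, Matrix.cons_val, map_sub] at hc hd
    by_cases h7 : c 2 = 0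
    · refine h.lin2 (by omega) (c 0) (c 1 + 1) ?_
      rw [h7] at hc
      linear_combination (norm := module) -hc
    · refine h.lin3 h4 (d 0 - d 2 / c 2 * c 0) (d 1 - d 2 / c 2 * (c 1 + 1)) (1 + d 2 / c 2) ?_
      have h8 : d 2 • x = (d 2 / c 2) • c 2 • x := by rw [smul_smul, div_mul_cancel₀ _ h7]
      linear_combination (norm := module) -hd + (d 2 / c 2) • hc + h8
  have key : ∀ z ∉ span F (Set.range ![v, A v, x]), ∃ g : K →ₗ[F] F, g z ≠ 0 ∧ (f + g) v = 1 ∧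
      (f + g) (A v) = 1 ∧ (f + g) x ≠ 0 := fun z hz => by
    obtain ⟨g, h7, h8⟩ := exists_le_ker_of_notMem hz
    have h9 : ∀ i, g (![v, A v, x] i) = 0 := fun i => h8 (subset_span ⟨i, rfl⟩)
    exact ⟨g, h7, by simpa [h1] using h9 0, by simpa [h2] using h9 1,
      by simpa [show g x = 0 from h9 2] using h3⟩
  rcases h6 with h6 | h6 <;> obtain ⟨g, h7, h8, h9, h10⟩ := key _ h6
  · exact ⟨f + g, h8, h9, h10, .inl (by rwa [LinearMap.add_apply, h5.1, zero_add])⟩
  · exact ⟨f + g, h8, h9, h10, .inr (by rwa [LinearMap.add_apply, h5.2, zero_add])⟩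

theorem Cyc.exists_phi_three [Module.Finite F K] (h : Cyc A v) (h3 : finrank F K = 3)
    (hF : ∀ a b c : F, ∃ t, t ≠ a ∧ t ≠ b ∧ t ≠ c) {x : K} (hx : x ∉ span F {A v - v}) :
    ∃ φ : K →ₗ[F] F, φ v = 1 ∧ φ (A v) = 1 ∧ φ x ≠ 0 ∧ φ (A (A v - v)) ≠ 0 ∧ ∀ c d : F,
      c • (A (A v - v) - φ (A (A v - v)) • A v - (A v - v)) ≠
        A (A (A v - v) - φ (A (A v - v)) • A v - (A v - v)) - d • A v := by
  have h1 : LinearIndependent F ![A (A v), v, A v] :=
    (h.indep2 (by omega)).finCons fun e => by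
      obtain ⟨c, hc⟩ := (mem_span_range_iff_exists_fun F).1 e
      exact h.lin2 h3.ge (c 0) (c 1) (by simpa using hc.symm)
  let b := basisOfLinearIndependentOfCardEqFinrank h1 (by simp [h3])
  have hb : ∀ i, b i = ![A (A v), v, A v] i := fun i => by simp [b]
  have h2 : ∀ z, z = b.repr z 0 • A (A v) + b.repr z 1 • v + b.repr z 2 • A v := fun z => by
    simpa [Fin.sum_univ_three, hb] using (b.sum_repr z).symm
  obtain ⟨s, s1, s2, s3⟩ := hF 1 (-(b.repr x 1 + b.repr x 2) / b.repr x 0)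
    (b.repr (A (A (A v))) 0 - 1 - b.repr (A (A (A v))) 1)
  let φ : K →ₗ[F] F := b.constr F ![s, 1, 1]
  have e0 : φ (A (A v)) = s := (congrArg φ (hb 0)).symm.trans (b.constr_basis F ![s, 1, 1] 0)
  have e1 : φ v = 1 := (congrArg φ (hb 1)).symm.trans (b.constr_basis F ![s, 1, 1] 1)
  have e2 : φ (A v) = 1 := (congrArg φ (hb 2)).symm.trans (b.constr_basis F ![s, 1, 1] 2)
  refine ⟨φ, e1, e2, fun e => ?_, by simpa [e0, e2, sub_eq_zero], fun c d e => s3 ?_⟩
  · rw [h2 x] at e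
    simp only [map_add, map_smul, e0, e1, e2, smul_eq_mul] at e
    by_cases h4 : b.repr x 0 = 0
    · refine hx (mem_span_singleton.2 ⟨b.repr x 2, ?_⟩)
      have h5 : b.repr x 1 = -b.repr x 2 := by rw [h4] at e; linear_combination e
      have h6 := h2 x
      rw [h4, h5] at h6
      linear_combination (norm := module) -h6
    · exact s2 (by field_simp; linear_combination e)
  · simp only [map_sub, map_smul, e0, e2] at e
    have h4 := Fintype.linearIndependent_iff.1 h1 ![c - b.repr (A (A (A v))) 0 + s + 1,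
      c - b.repr (A (A (A v))) 1, -c * (s + 1) - b.repr (A (A (A v))) 2 - 1 + d] (by
        simp only [Fin.sum_univ_three, Matrix.cons_val]
        linear_combination (norm := module) e + h2 (A (A (A v))))
    have h5 := h4 0
    have h6 := h4 1
    simp only [Matrix.cons_val] at h5 h6
    linear_combination h5 - h6

end Cfsg.Lib.Ore
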