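import Cfsg.Agent.Lib.GLC.Cyc
import Cfsg.Agent.Lib.GLC.Unip

/-!
# Factorisations `S = a c⁻¹` with cyclic factors, one elimination step
-/

set_option autoImplicit false

namespace Cfsg.Lib.Ore

open Module Polynomial LinearMap Cfsg.Lib.GLC

variable {F W W' : Type*} [Field F] [AddCommGroup W] [Module F W] [AddCommGroup W'] [Module F W']

/-- `f` generates the annihilator of `a`. -/
def Ann (a : End F W) (f : F[X]) : Prop := ∀ R : F[X], aeval a R = 0 ↔ f ∣ R

/-- `S c = a` with `a`, `c` annihilated exactly by `(X - 1) ^ j g`, compatible with `x` and `y`. -/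
def Good (g : F[X]) (S : End F W) (x : W) (y : W →ₗ[F] F) : Prop :=
  ∃ (a c : End F W) (j : ℕ), S * c = a ∧ j + g.natDegree = finrank F W ∧ Ann a ((X - 1) ^ j * g) ∧
    Ann c ((X - 1) ^ j * g) ∧ (∀ z, ∃ (s : F) (w : W), z = s • x + (a w - w)) ∧
      ∀ z, c z = z → y z = 0 → z = 0

theorem aeval_intertwine {a : End F W} {b : End F W'} {ι : W' →ₗ[F] W} (h : ∀ u, a (ι u) = ι (b u))
    (R : F[X]) (u : W') : aeval a R (ι u) = ι (aeval b R u) := by
  induction R using Polynomial.induction_on generalizing u with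
  | C c => simp
  | add p q hp hq => simp [hp, hq]
  | monomial n c ih =>
    rw [pow_succ, ← mul_assoc, map_mul (aeval a), map_mul (aeval b), aeval_X, aeval_X, End.mul_apply,
      End.mul_apply, h, ih]

theorem aeval_fixed {a : End F W} {v : W} (h : a v = v) (R : F[X]) : aeval a R v = R.eval 1 • v := by
  induction R using Polynomial.induction_on with
  | C c => simp
  | add p q hp hq => simp [hp, hq, add_smul]
  | monomial n c ih =>
    rw [pow_succ, ← mul_assoc, map_mul (aeval a), aeval_X, End.mul_apply, h, ih]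
    simp

theorem aeval_X_sub_one_mul (a : End F W) (f : F[X]) (z : W) :
    aeval a ((X - 1) * f) z = aeval a f (a z - z) := by
  rw [mul_comm, map_mul]
  simp

theorem aeval_X_sub_one_mul' (a : End F W) (f : F[X]) (z : W) :
    aeval a ((X - 1) * f) z = a (aeval a f z) - aeval a f z := by
  rw [map_mul]
  simp

theorem ann_succ {a : End F W} {f : F[X]} (h1 : aeval a ((X - 1) * f) = 0) (h2 : aeval a f ≠ 0)
    (h3 : ∀ R, aeval a R = 0 → f ∣ R) : Ann a ((X - 1) * f) := by
  refine fun R => ⟨fun hR => ?_, fun ⟨T, hT⟩ => by rw [hT, map_mul, h1, zero_mul]⟩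
  obtain ⟨T, rfl⟩ := h3 R hR
  obtain ⟨T', hT⟩ : X - C 1 ∣ T - C (T.eval 1) := X_sub_C_dvd_sub_C_eval
  have h4 : f * T = (X - 1) * f * T' + C (T.eval 1) * f := by
    rw [C_1] at hT
    linear_combination f * hT
  rw [h4, map_add, map_mul, h1, zero_mul, zero_add, map_mul, aeval_C, ← Algebra.smul_def,
    smul_eq_zero, or_iff_left h2] at hR
  rw [h4, hR, C_0, zero_mul, add_zero]
  exact dvd_mul_right _ _

theorem not_dvd_pred {g : F[X]} (hg : g.eval 1 ≠ 0) (i : ℕ) :
    ¬ (X - 1) ^ (i + 1) * g ∣ (X - 1) ^ i * g := fun h => by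
  have h0 : (X - 1 : F[X]) ^ i * g ≠ 0 :=
    mul_ne_zero (pow_ne_zero _ (X_sub_C_ne_zero 1)) fun e => hg (by simp [e])
  rw [pow_succ, mul_right_comm, ← mul_one ((X - 1) ^ i * g), mul_assoc _ 1, one_mul,
    mul_dvd_mul_iff_left h0] at h
  simpa using eval_dvd (x := 1) h

/-- The data of one elimination step: `S'` is the Schur complement of `S` on `ker φ`. -/
structure Step (S : End F W) (v : W) (φ : W →ₗ[F] F) (ι : W' →ₗ[F] W) (S' : End F W') : Prop where
  inj : Function.Injective ι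
  ker : ∀ z, φ z = 0 ↔ ∃ u, ι u = z
  hv : φ v = 1
  hSv : φ (S v) = 1
  hS : ∀ u, ι (S' u) = S (ι u) - φ (S (ι u)) • S v

variable {S : End F W} {v : W} {φ : W →ₗ[F] F} {ι : W' →ₗ[F] W} {S' : End F W'}

theorem Step.exists_proj (h : Step S v φ ι S') :
    ∃ π : W →ₗ[F] W', (∀ z, ι (π z) = z - φ z • v) ∧ (∀ u, π (ι u) = u) ∧ π v = 0 := by
  have h1 : ∀ z, (LinearMap.id - φ.smulRight v : End F W) z ∈ range ι := fun z =>
    (h.ker _).1 (by simp [h.hv])
  have h2 : ∀ z, ι ((LinearEquiv.ofInjective ι h.inj).symm (codRestrict _ _ h1 z)) = z - φ z • v :=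
    fun z => by simp
  refine ⟨(LinearEquiv.ofInjective ι h.inj).symm.toLinearMap ∘ₗ codRestrict _ _ h1, h2,
    fun u => h.inj ((h2 _).trans ?_), h.inj ((h2 _).trans ?_)⟩
  · rw [(h.ker _).2 ⟨u, rfl⟩, zero_smul, sub_zero]
  · simp [h.hv]

theorem Step.finrank_eq [Module.Finite F W] (h : Step S v φ ι S') :
    finrank F W = finrank F W' + 1 := by
  have h1 := φ.finrank_range_add_finrank_ker
  have h2 : range φ = ⊤ := range_eq_top.2 fun s => ⟨s • v, by simp [h.hv]⟩
  have h3 : LinearMap.ker φ = range ι := Submodule.ext h.ker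
  rw [h2, h3, finrank_range_of_inj h.inj, finrank_top, finrank_self] at h1
  omega

theorem Step.finite [Module.Finite F W] (h : Step S v φ ι S') : Module.Finite F W' :=
  .of_injective ι h.inj

theorem Step.det_eq [Module.Finite F W] (h : Step S v φ ι S') :
    LinearMap.det S' = LinearMap.det S := by
  obtain ⟨π, h1, h2, h3⟩ := h.exists_proj
  have h0 : ∀ u, φ (ι u) = 0 := fun u => (h.ker _).2 ⟨u, rfl⟩
  let E : End F W := LinearMap.id - φ.smulRight (S v - v)
  have hE : LinearMap.det E = 1 := by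
    rw [det_eq_of_exact (a := 1) (c := (1 : End F F)) (π := φ) h.inj
      (fun s => ⟨s • v, by simp [h.hv]⟩) (Submodule.ext fun z => (h.ker z).symm)
      (fun u => by simp [E, h0]) fun z => by simp [E, h.hv, h.hSv]]
    simp
  have h4 := det_eq_of_exact (a := (1 : End F F)) (b := E * S) (c := S') (π := π)
    (ι := toSpanSingleton F W v) (fun s t e => by simpa [h.hv] using congrArg φ e)
    (fun u => ⟨_, h2 u⟩) (Submodule.ext fun z => ⟨by rintro ⟨s, rfl⟩; simp [h3], fun hz =>
      ⟨φ z, (sub_eq_zero.1 (by rw [toSpanSingleton_apply, ← h1, mem_ker.1 hz, map_zero])).symm⟩⟩)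
    (fun s => by simp [E, h.hSv]) fun z => h.inj (by
      rw [h.hS, h1, h1]
      simp only [E, End.mul_apply, LinearMap.sub_apply, id_apply, smulRight_apply, map_sub, map_smul, h.hv,
        h.hSv, smul_eq_mul]
      module)
  rw [map_mul, hE, map_one, one_mul, one_mul] at h4
  exact h4.symm

theorem Good.step [Module.Finite F W] {g : F[X]} (hg : g.eval 1 ≠ 0) (h : Step S v φ ι S') {x : W}
    {y : W →ₗ[F] F} (hx : φ x ≠ 0) (hy : y v ≠ 0) {x' : W'} (hx' : ι x' = S v - v)
    {y' : W' →ₗ[F] F} (hy' : ∀ u, y' u = φ (S (ι u))) (H : Good g S' x' y') : Good g S x y := by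
  obtain ⟨π, h1, h2, h3⟩ := h.exists_proj
  have h0 : ∀ u, φ (ι u) = 0 := fun u => (h.ker _).2 ⟨u, rfl⟩
  obtain ⟨a', c', j, e, hj, ha, hc, hX, hY⟩ := H
  let a : End F W := ι ∘ₗ a' ∘ₗ π + φ.smulRight (S v)
  let c : End F W := ι ∘ₗ c' ∘ₗ π + (φ - y' ∘ₗ c' ∘ₗ π).smulRight v
  have a1 : ∀ u, a (ι u) = ι (a' u) := fun u => by simp [a, h0, h2]
  have a2 : a v = S v := by simp [a, h3, h.hv]
  have a3 : ∀ z, φ (a z) = φ z := fun z => by simp [a, h0, h.hSv]
  have c1 : ∀ z, c' (π z) = π (c z) := fun z => by simp [c, h2, h3]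
  have c2 : c v = v := by simp [c, h3, h.hv]
  have c3 : ∀ z, c z = z → π z = 0 := fun z hz => hY _ (by rw [c1, hz]) (by
    have h4 : φ (c z) = φ z - y' (c' (π z)) := by simp [c, h0, h.hv]
    rwa [c1, hz, eq_comm, sub_eq_self] at h4)
  have c4 : ∀ z, π z = 0 → z = φ z • v := fun z hz =>
    sub_eq_zero.1 (by rw [← h1, hz, map_zero])
  refine ⟨a, c, j + 1, LinearMap.ext fun z => ?_, by rw [h.finrank_eq]; omega, ?_, ?_, fun z => ?_,
    fun z hz hz' => ?_⟩
  · simp only [a, c, End.mul_apply, LinearMap.add_apply, comp_apply, smulRight_apply, LinearMap.sub_apply, map_add,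
      map_smul, ← e, h.hS, hy']
    module
  · rw [pow_succ', mul_assoc]
    refine ann_succ (LinearMap.ext fun z => ?_) (fun h4 => ?_) fun R hR =>
      (ha R).1 (LinearMap.ext fun u => h.inj (by rw [← aeval_intertwine a1, hR]; simp))
    · obtain ⟨u, hu⟩ := (h.ker (a z - z)).1 (by simp [a3])
      rw [aeval_X_sub_one_mul, ← hu, aeval_intertwine a1, (ha _).2 dvd_rfl]
      simp
    · rcases j with _ | i
      · have h5 := aeval_intertwine (a := (1 : End F F)) (b := a) (ι := φ) (fun z => (a3 z).symm) g v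
        rw [pow_zero, one_mul] at h4
        rw [h4, aeval_fixed rfl, h.hv] at h5
        simp [hg] at h5
      · have h5 := congrArg (· v) h4
        simp only [pow_succ', mul_assoc, aeval_X_sub_one_mul, a2, ← hx', aeval_intertwine a1,
          LinearMap.zero_apply, map_eq_zero_iff _ h.inj] at h5
        refine not_dvd_pred hg i ((ha _).1 (LinearMap.ext fun z => ?_))
        obtain ⟨s, w, rfl⟩ := hX z
        rw [map_add, map_smul, h5, ← aeval_X_sub_one_mul, ← mul_assoc, ← pow_succ',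
          (ha _).2 dvd_rfl]
        simp
  · rw [pow_succ', mul_assoc]
    refine ann_succ (LinearMap.ext fun z => ?_) (fun h4 => ?_) fun R hR =>
      (hc R).1 (LinearMap.ext fun u => by rw [← h2 u, aeval_intertwine c1, hR]; simp)
    · have h5 := c4 (aeval c ((X - 1) ^ j * g) z)
        (by rw [← aeval_intertwine c1, (hc _).2 dvd_rfl, LinearMap.zero_apply])
      rw [aeval_X_sub_one_mul', h5, map_smul, c2, sub_self, LinearMap.zero_apply]
    · rcases j with _ | i
      · have h5 := congrArg φ (aeval_fixed c2 g)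
        rw [pow_zero, one_mul] at h4
        rw [h4] at h5
        simp [h.hv, hg.symm] at h5
      · refine not_dvd_pred hg i ((hc _).1 (LinearMap.ext fun u => ?_))
        rw [← h2 u, aeval_intertwine c1, LinearMap.zero_apply]
        refine c3 _ ?_
        rw [← sub_eq_zero, ← aeval_X_sub_one_mul', ← mul_assoc, ← pow_succ', h4, LinearMap.zero_apply]
  · obtain ⟨u, hu⟩ := (h.ker (z - (φ z / φ x) • x)).1 (by simp [hx])
    obtain ⟨t, w, rfl⟩ := hX u
    refine ⟨φ z / φ x, t • v + ι w, ?_⟩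
    rw [← sub_eq_iff_eq_add', ← hu]
    simp only [map_add, map_smul, map_sub, a1, a2, hx']
    module
  · have h5 := c4 z (c3 z hz)
    rw [h5, map_smul, smul_eq_zero, or_iff_left hy] at hz'
    rw [h5, hz', zero_smul]

theorem Ann.of_equiv {a : End F W} {b : End F W'} {f : F[X]} (h : Ann a f) (e : Sim a b) : Ann b f :=
  fun R => ((e.aeval R).eq_zero_iff).symm.trans (h R)

theorem Good.of_equiv {g : F[X]} {T : End F W'} {x : W} {y : W →ₗ[F] F} {x' : W'} {y' : W' →ₗ[F] F}
    (H : Good g S x y) (e : W ≃ₗ[F] W') (h : ∀ z, e (S z) = T (e z)) (hx : e x = x')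
    (hy : ∀ z, y' (e z) = y z) : Good g T x' y' := by
  obtain ⟨a, c, j, e1, hj, ha, hc, hX, hY⟩ := H
  refine ⟨e.conjAlgEquiv F a, e.conjAlgEquiv F c, j, LinearMap.ext fun z => ?_,
    e.finrank_eq ▸ hj, ha.of_equiv (sim_conj e a), hc.of_equiv (sim_conj e c), fun z => ?_,
    fun z h1 h2 => ?_⟩
  · simp [← e1, h]
  · obtain ⟨s, w, h1⟩ := hX (e.symm z)
    exact ⟨s, e w, by simpa [hx] using congrArg e h1⟩
  · obtain ⟨z, rfl⟩ := e.surjective z
    rw [hY z (by simpa using h1) (by rw [← hy, h2]), map_zero]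

theorem ann_of_blocks {a : End F W} {g : F[X]} (h : Blocks a {g}) : Ann a g :=
  fun R => by simp [h.aeval_eq_zero_iff]

theorem Ann.blocks [Module.Finite F W] {a : End F W} {f : F[X]} (h : Ann a f) (hf : f.Monic)
    (hd : f.natDegree = finrank F W) : Blocks a {f} := by
  have : minpoly F a = f := eq_of_monic_of_associated (minpoly.monic (isIntegral a)) hf
    (associated_of_dvd_dvd (minpoly.dvd F a ((h f).2 dvd_rfl)) ((h _).1 (minpoly.aeval F a)))
  exact this ▸ blocks_of_minpoly (this ▸ hd)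

/-- The last step: no condition on `x` and `y` is left. -/
theorem good_tail {g : F[X]} (hg : g.eval 1 ≠ 0) {c : End F W} (hc : Blocks c {g})
    (ha : Blocks (S * c) {g}) (x : W) (y : W →ₗ[F] F) : Good g S x y := by
  have key : ∀ {b : End F W}, Blocks b {g} → IsUnit (b - 1) := fun {b} hb => by
    have := (hb.isUnit_aeval_iff (Q := X - C 1)).2 (by
      simpa using ((irreducible_X_sub_C (1 : F)).coprime_iff_not_dvd.2
        (fun e => hg (dvd_iff_isRoot.1 e))).symm)
    simpa using this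
  refine ⟨_, c, 0, rfl, by simp [hc.finrank_eq], by simpa using ann_of_blocks ha,
    by simpa using ann_of_blocks hc, fun z => ?_, fun z h1 _ => ?_⟩
  · obtain ⟨w, hw⟩ := ((End.isUnit_iff _).1 (key ha)).2 z
    exact ⟨0, w, by simp [← hw]⟩
  · exact ((End.isUnit_iff _).1 (key hc)).1 (by simp [h1])

theorem Good.exists_blocks [Module.Finite F W] {g : F[X]} (hg : g.Monic) {x : W} {y : W →ₗ[F] F}
    (H : Good g S x y) : ∃ (c : End F W) (j : ℕ), j + g.natDegree = finrank F W ∧
      Blocks c {(X - 1) ^ j * g} ∧ Blocks (S * c) {(X - 1) ^ j * g} := by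
  obtain ⟨a, c, j, rfl, hj, ha, hc, -⟩ := H
  have h1 : ((X - 1 : F[X]) ^ j).Monic := (monic_X_sub_C 1).pow j
  have h2 : ((X - 1) ^ j * g).natDegree = finrank F W := by
    rw [h1.natDegree_mul hg, ← hj, ← C_1, natDegree_pow, natDegree_X_sub_C, mul_one]
  exact ⟨c, j, hj, hc.blocks (h1.mul hg) h2, ha.blocks (h1.mul hg) h2⟩

end Cfsg.Lib.Ore
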