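import Cfsg.Agent.Lib.Ore.Comm

/-!
# The last steps of the elimination, and Ore's conjecture for `SL n q`
-/

set_option autoImplicit false

namespace Cfsg.Lib.Ore

open Module Polynomial LinearMap Cfsg.Lib.GLC Submodule Matrix

universe u

variable {F W : Type u} [Field F] [AddCommGroup W] [Module F W] {S : End F W} {μ : Multiset F[X]}

theorem blocks_of_two [Module.Finite F W] {g : F[X]} (h2 : finrank F W = 2) (hS : ∀ c : F, S ≠ c • 1)
    (hg : g.Monic) (hd : g.natDegree = 2) (h : aeval S g = 0) : Blocks S {g} := by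
  have h0 := fun Q hQ => (typ_pp S Q hQ).natDegree_pos
  obtain ⟨P, ν, h1, b, h3⟩ := exists_blocks_two (blocks_typ S) h0 hS
  have h4 := b.finrank_eq
  obtain rfl : ν = 0 := Multiset.eq_zero_of_forall_notMem fun Q hQ => by
    have := Multiset.single_le_sum (s := ν.map natDegree) (by simp) _ (Multiset.mem_map_of_mem _ hQ)
    have := h0 Q (Multiset.mem_of_le h1 hQ)
    rw [Multiset.map_cons, Multiset.sum_cons] at h4
    omega
  rwa [eq_of_monic_of_dvd_of_natDegree_le (b.monic P (by simp)) hg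
    (b.aeval_eq_zero_iff.1 h P (by simp)) (by omega)]

theorem fac_two {l : F} (h0 : l ≠ 0) (h1 : l ≠ l⁻¹) (t : F) :
    Fac (toLin' !![0, -1; 1, t]) ((X - C l) * (X - C l⁻¹)) := by
  have key : ∀ M : Matrix (Fin 2) (Fin 2) F, (∀ c : F, M ≠ c • 1) →
      (M - l • 1) * (M - l⁻¹ • 1) = 0 → Blocks (toLin' M) {(X - C l) * (X - C l⁻¹)} := fun M h2 h3 =>
    blocks_of_two (by simp) (fun c e => h2 c (toLin'_eq_smul_one_iff.1 e))
      ((monic_X_sub_C _).mul (monic_X_sub_C _))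
      (by rw [(monic_X_sub_C _).natDegree_mul (monic_X_sub_C _), natDegree_X_sub_C, natDegree_X_sub_C])
      (by simp [aeval_toLin', Algebra.algebraMap_eq_smul_one, h3])
  refine ⟨toLin' !![l⁻¹, l + l⁻¹ - t * l; 0, l], key _ (fun c e => h1 ?_) ?_, ?_⟩
  · have h2 := congrFun₂ e 0 0
    have h3 := congrFun₂ e 1 1
    simp_all
  · ext i j
    fin_cases i <;> fin_cases j <;> simp [Matrix.mul_apply, Fin.sum_univ_two] <;> ring
  · rw [End.mul_eq_comp, ← toLin'_mul]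
    refine key _ (fun c e => h0 (by simpa using congrFun₂ e 1 0)) ?_
    ext i j
    fin_cases i <;> fin_cases j <;> simp [Matrix.mul_apply, Fin.sum_univ_two] <;> field_simp <;> ring

theorem comm_of_four [Finite F] [Module.Finite F W] (hF : ∀ a b c : F, ∃ t, t ≠ a ∧ t ≠ b ∧ t ≠ c)
    (hd : LinearMap.det S = 1) : Comm S := by
  obtain ⟨l, h0, h1, h2⟩ := hF 0 1 (-1)
  have h3 : l ≠ l⁻¹ := fun e => by
    have : l * l = 1 := by nth_rw 2 [e]; exact mul_inv_cancel₀ h0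
    exact (mul_self_eq_one_iff.1 this).elim h1 h2
  have h4 : ((X - C l) * (X - C l⁻¹)).eval 1 ≠ 0 := by
    simp [sub_eq_zero, h1.symm, eq_comm (a := (1 : F)), h1]
  have h5 := isCoprime_X_sub_C_of_isUnit_sub (sub_ne_zero.2 h3).isUnit
  have h6 : (-1) ^ ((X - C l) * (X - C l⁻¹)).natDegree * ((X - C l) * (X - C l⁻¹)).coeff 0 = 1 := by
    rw [(monic_X_sub_C _).natDegree_mul (monic_X_sub_C _), natDegree_X_sub_C, natDegree_X_sub_C]
    simp [h0]
  refine comm_of_level (monic_X_sub_C l) (irreducible_X_sub_C l) (monic_X_sub_C l⁻¹) h4 h5 h6 le_rfl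
    (by omega) (fun _ => hF) (fun μ _ K R _ _ _ _ A v x y B ν h _ e => ?_) (fun t => .inl
      (Fac.comm (j := 0) (by simpa using fac_two h0 h3 t) (monic_X_sub_C l) (irreducible_X_sub_C l)
        (monic_X_sub_C l⁻¹) (by simpa [sub_eq_zero] using h1.symm) h5 h6)) hd
  haveI := h.fin
  haveI := h.blocks.finite
  have h7 := h.two
  haveI : Subsingleton R := finrank_zero_iff.1 (show finrank F R = 0 by omega)
  obtain ⟨t, ht⟩ := h.cyc.sim_two (by omega)
  rw [show LinearMap.det A = 1 by simpa [det_eq_one_of_subsingleton] using h.det] at ht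
  exact ((fac_two h0 h3 t).of_sim (sim_prodMap_subsingleton.trans ht)).good h4 _ _

/-- `M` has a cyclic factorisation with characteristic polynomial `X ^ 3 - X - 1`. -/
def Wit (M : Matrix (Fin 3) (Fin 3) F) : Prop :=
  ∃ c : Matrix (Fin 3) (Fin 3) F, c * c * c = c + 1 ∧ M * c * (M * c) * (M * c) = M * c + 1

theorem comm_of_small [Finite F] [Module.Finite F W] (h0 : ∀ a : F, a ^ 3 - a - 1 ≠ 0)
    (w1 : ∀ a b : F, Wit !![0, 0, 1; 1, 0, b; 0, 1, a])
    (w2 : ∀ t d e : F, d * e = 1 → e ≠ 1 → Wit !![0, -d, 0; 1, t, 0; 0, 0, e])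
    (w3 : ∀ t : F, ∃ p c : Matrix (Fin 3) (Fin 3) F, p.det = 1 ∧ c.det = 1 ∧
      !![0, -1, 0; 1, t, 0; 0, 0, 1] * c * p = p * c)
    (h3 : 3 ≤ finrank F W) (hd : LinearMap.det S = 1) : Comm S := by
  have h1 : (X ^ 3 - X - 1 : F[X]).Monic := by monicity!
  have h2 : (X ^ 3 - X - 1 : F[X]).natDegree = 3 := by compute_degree!
  have h4 : Irreducible (X ^ 3 - X - 1 : F[X]) :=
    irreducible_of_degree_le_three_of_not_isRoot (by simp [h2]) fun a => by simpa using h0 a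
  have h5 : ∀ c : Matrix (Fin 3) (Fin 3) F, c * c * c = c + 1 → Blocks (toLin' c) {X ^ 3 - X - 1} :=
    fun c hc => by
      have := minpoly.eq_of_irreducible_of_monic (x := toLin' c) h4
        (by simp [aeval_toLin', pow_three', hc]) h1
      exact this ▸ blocks_of_minpoly (by simp [← this, h2])
  have h6 : ∀ {M : Matrix (Fin 3) (Fin 3) F}, Wit M → Fac (toLin' M) ((X ^ 3 - X - 1) * 1) :=
    fun ⟨c, e1, e2⟩ => ⟨toLin' c, by simpa using h5 c e1, by
      simpa [End.mul_eq_comp, ← toLin'_mul] using h5 _ e2⟩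
  have h7 : ((X ^ 3 - X - 1) * 1 : F[X]).eval 1 ≠ 0 := by simp
  refine comm_of_level h1 h4 monic_one h7 isCoprime_one_right (by simp [h2]; norm_num) (by omega) le_rfl
    (by omega) (fun μ hμ K R _ _ _ _ A v x y B ν h hν e => ?_) (fun t => .inr ⟨h3, ?_⟩) hd
  · haveI := h.fin
    haveI := h.blocks.finite
    rcases h.two.eq_or_lt with h8 | h8
    · obtain ⟨t, ht⟩ := h.cyc.sim_two h8.symm
      have h9 : finrank F R = 1 := by omega
      obtain ⟨c, rfl⟩ := (LinearMap.existsUnique_eq_smul_id_of_finrank_eq_one h9 B).exists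
      refine ((h6 (w2 t _ c (by simpa [h9] using h.det) fun e => hμ ?_)).of_sim ((ht.prodMap
        (sim_smul_one (by simpa) c)).trans (sim_two_one _ _ _ _ _))).good h7 _ _
      obtain ⟨Q, hQ⟩ := Multiset.exists_mem_of_ne_zero (s := ν) (by
        rintro rfl
        simpa [h9] using h.blocks.finrank_eq)
      have h10 := (h.blocks.aeval_eq_zero_iff (Q := X - C 1)).1 (by simp [e, End.one_eq_id]) Q hQ
      rw [← C_1, eq_of_monic_of_dvd_of_natDegree_le (h.blocks.monic Q hQ) (monic_X_sub_C 1) h10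
        (by rw [natDegree_X_sub_C]; exact h.pos Q hQ)]
      exact Multiset.mem_of_le hν hQ
    · haveI : Subsingleton R := finrank_zero_iff.1 (show finrank F R = 0 by omega)
      obtain ⟨a, b, ht⟩ := h.cyc.sim_three (by omega)
      rw [show LinearMap.det A = 1 by simpa [det_eq_one_of_subsingleton] using h.det] at ht
      exact ((h6 (w1 a b)).of_sim (sim_prodMap_subsingleton.trans ht)).good h7 _ _
  · obtain ⟨p, c, e1, e2, e3⟩ := w3 t
    exact ⟨toLin' p, toLin' c, by simpa, by simpa, by simp only [End.mul_eq_comp, ← toLin'_mul, e3]⟩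

theorem comm_zmod_two {W : Type} [AddCommGroup W] [Module (ZMod 2) W] [Module.Finite (ZMod 2) W]
    {S : End (ZMod 2) W} (h3 : 3 ≤ finrank (ZMod 2) W) (hd : LinearMap.det S = 1) : Comm S := by
  refine comm_of_small (by decide) (fun a b => ?_) (fun t d e h1 h2 => absurd ?_ h2) (fun t => ?_) h3 hd
  · fin_cases a <;> fin_cases b
    exacts [⟨!![0, 1, 1; 1, 1, 0; 1, 1, 1], by decide⟩, ⟨!![0, 0, 1; 1, 0, 1; 0, 1, 0], by decide⟩,
      ⟨!![1, 0, 1; 1, 1, 0; 0, 1, 0], by decide⟩, ⟨!![0, 0, 1; 0, 1, 1; 1, 1, 1], by decide⟩]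
  · revert d e
    decide
  · fin_cases t
    exacts [⟨!![1, 0, 0; 0, 1, 0; 1, 1, 1], !![1, 1, 1; 0, 0, 1; 0, 1, 1], by decide⟩,
      ⟨!![1, 0, 0; 1, 1, 0; 0, 0, 1], !![1, 1, 0; 0, 1, 0; 1, 0, 1], by decide⟩]

theorem comm_zmod_three {W : Type} [AddCommGroup W] [Module (ZMod 3) W] [Module.Finite (ZMod 3) W]
    {S : End (ZMod 3) W} (h3 : 3 ≤ finrank (ZMod 3) W) (hd : LinearMap.det S = 1) : Comm S := by
  refine comm_of_small (by decide) (fun a b => ?_) (fun t d e h1 h2 => ?_) (fun t => ?_) h3 hd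
  · fin_cases a <;> fin_cases b
    exacts [⟨!![0, 0, 1; 2, 0, 1; 2, 2, 0], by decide⟩, ⟨!![0, 0, 1; 0, 1, 2; 2, 2, 2], by decide⟩,
      ⟨!![0, 0, 1; 0, 2, 1; 1, 2, 1], by decide⟩, ⟨!![0, 1, 1; 0, 1, 2; 1, 1, 2], by decide⟩,
      ⟨!![0, 0, 1; 0, 1, 1; 2, 1, 2], by decide⟩, ⟨!![0, 0, 1; 0, 2, 2; 1, 1, 1], by decide⟩,
      ⟨!![0, 0, 2; 0, 2, 2; 2, 1, 1], by decide⟩, ⟨!![0, 0, 1; 1, 2, 0; 0, 1, 1], by decide⟩,
      ⟨!![0, 0, 2; 0, 2, 1; 2, 2, 1], by decide⟩]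
  · obtain ⟨rfl, rfl⟩ : d = 2 ∧ e = 2 := by
      revert d e
      decide
    fin_cases t
    exacts [⟨!![0, 0, 1; 1, 2, 2; 2, 2, 1], by decide⟩, ⟨!![0, 1, 0; 2, 0, 1; 1, 2, 0], by decide⟩,
      ⟨!![0, 1, 0; 2, 1, 1; 2, 1, 2], by decide⟩]
  · fin_cases t
    exacts [⟨!![0, 1, 0; 2, 1, 0; 2, 2, 1], !![2, 0, 0; 2, 2, 0; 2, 1, 1], by decide⟩,
      ⟨!![0, 1, 0; 2, 1, 0; 0, 2, 1], !![0, 1, 0; 1, 1, 0; 1, 0, 2], by decide⟩,
      ⟨!![0, 1, 1; 2, 1, 0; 2, 2, 2], !![2, 0, 1; 2, 1, 0; 2, 2, 1], by decide⟩]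

theorem Comm.sl {n : Type} [Fintype n] [DecidableEq n] {g : SpecialLinearGroup n F} (h : Comm (toLin' g.1)) :
    ∃ a b : SpecialLinearGroup n F, g = a * b * a⁻¹ * b⁻¹ := by
  obtain ⟨p, c, h1, h2, h3⟩ := h
  obtain ⟨p, rfl⟩ := toLin'.surjective p
  obtain ⟨c, rfl⟩ := toLin'.surjective c
  simp only [End.mul_eq_comp, ← toLin'_mul, EmbeddingLike.apply_eq_iff_eq] at h3
  exact ⟨⟨p, by simpa using h1⟩, ⟨c, by simpa using h2⟩,
    eq_mul_inv_of_mul_eq (eq_mul_inv_of_mul_eq (Subtype.ext h3))⟩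

end Cfsg.Lib.Ore
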