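import Cfsg.Agent.Lib.Ore.Chain

/-!
# Starting the elimination; products of two regular unipotent elements
-/

set_option autoImplicit false

namespace Cfsg.Lib.Ore

open Module Polynomial LinearMap Cfsg.Lib.GLC Submodule

universe u

variable {F W W' : Type u} [Field F] [AddCommGroup W] [Module F W] [AddCommGroup W'] [Module F W']
  {S : End F W} {T : End F W'} {P g : F[X]} {μ : Multiset F[X]}

theorem cyc_one (P : F[X]) : Cyc (GLC.cyc P) 1 := fun U h1 h2 => eq_top_iff.2 fun z _ => by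
  obtain ⟨Q, rfl⟩ := AdjoinRoot.mk_surjective z
  induction Q using Polynomial.induction_on with
  | C c => simpa [Algebra.smul_def] using smul_mem U c h1
  | add p q hp hq => exact map_add (AdjoinRoot.mk P) p q ▸ add_mem (hp trivial) (hq trivial)
  | monomial n c ih =>
    rw [pow_succ, ← mul_assoc, map_mul, AdjoinRoot.mk_X, mul_comm]
    exact h2 _ (ih trivial)

theorem eq_smul_one_of_blocks {c : F} (h : Blocks S μ) (h1 : ∀ Q ∈ μ, Q = X - C c) : S = c • 1 := by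
  have := (h.aeval_eq_zero_iff (Q := X - C c)).2 fun P hP => by rw [h1 P hP]
  rwa [map_sub, aeval_X, aeval_C, sub_eq_zero, Algebra.algebraMap_eq_smul_one] at this

/-- A non-scalar endomorphism has a cyclic block of dimension at least two. -/
theorem exists_blocks_two (h : Blocks S μ) (hμ : ∀ Q ∈ μ, 0 < Q.natDegree) (hS : ∀ c : F, S ≠ c • 1) :
    ∃ P ν, ν ≤ μ ∧ Blocks S (P ::ₘ ν) ∧ 2 ≤ P.natDegree := by
  by_cases h1 : ∃ P ∈ μ, 2 ≤ P.natDegree
  · obtain ⟨P, hP, h1⟩ := h1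
    obtain ⟨ν, rfl⟩ := Multiset.exists_cons_of_mem hP
    exact ⟨P, ν, Multiset.le_cons_self _ _, h, h1⟩
  push Not at h1
  have h2 : ∀ Q ∈ μ, Q = X - C (-Q.coeff 0) := fun Q hQ => by
    rw [C_neg, sub_neg_eq_add]
    exact (h.monic Q hQ).eq_X_add_C (by have := h1 Q hQ; have := hμ Q hQ; omega)
  obtain ⟨P, hP, -⟩ : ∃ P ∈ μ, P ≠ X - C 0 := by
    by_contra h3
    push Not at h3
    exact hS 0 (eq_smul_one_of_blocks h h3)
  obtain ⟨Q, hQ, h3⟩ : ∃ Q ∈ μ, Q ≠ X - C (-P.coeff 0) := by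
    by_contra h3
    push Not at h3
    exact hS _ (eq_smul_one_of_blocks h h3)
  rw [← h2 P hP] at h3
  obtain ⟨ν, rfl⟩ := Multiset.exists_cons_of_mem hP
  obtain ⟨ν, rfl⟩ := Multiset.exists_cons_of_mem ((Multiset.mem_cons.1 hQ).resolve_left h3)
  refine ⟨_, ν, (Multiset.le_cons_self _ _).trans (Multiset.le_cons_self _ _), h.merge
    (isCoprime_of_ne (h.monic P hP) (h2 P hP ▸ irreducible_X_sub_C _) (h.monic Q hQ)
      (h2 Q hQ ▸ irreducible_X_sub_C _) h3.symm), ?_⟩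
  rw [(h.monic P hP).natDegree_mul (h.monic Q hQ)]
  have := hμ P hP
  have := hμ Q hQ
  omega

/-- `S = a c⁻¹` with `a`, `c` cyclic with characteristic polynomial `f`. -/
def Fac (S : End F W) (f : F[X]) : Prop := ∃ c : End F W, Blocks c {f} ∧ Blocks (S * c) {f}

theorem Fac.of_sim (h : Fac T g) (e : Sim S T) : Fac S g := by
  obtain ⟨c, h1, h2⟩ := h
  obtain ⟨u, rfl⟩ := sim_iff.1 e.symm
  exact ⟨u.conjAlgEquiv F c, (sim_conj u c).symm.blocks h1,
    map_mul (u.conjAlgEquiv F) T c ▸ (sim_conj u _).symm.blocks h2⟩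

theorem Fac.good (h : Fac S g) (hg : g.eval 1 ≠ 0) (x : W) (y : W →ₗ[F] F) : Good g S x y :=
  let ⟨_, h1, h2⟩ := h
  good_tail hg h1 h2 x y

theorem Level.fac (hg : g.Monic) (h : Blocks S (P ::ₘ μ)) (hP : 2 ≤ P.natDegree)
    (hμ : ∀ Q ∈ μ, 0 < Q.natDegree) (hd : LinearMap.det S = 1)
    (hb : (∀ Q ∈ μ, Q = X - 1) → P ≠ (X - 1) ^ 2) (H : Level g μ (finrank F W)) :
    ∃ j, j + g.natDegree = finrank F W ∧ Fac S ((X - 1) ^ j * g) := by
  haveI := h.finite
  have hm := h.monic P (by simp)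
  haveI := hm.finite_adjoinRoot
  obtain ⟨R₁, R₂, hR₁, hR₂, hc, b1, b2⟩ := Blocks.exists_isCompl (μ := {P}) h
  haveI := b2.finite
  have e := (((blocks_cyc hm).sim b1).prodMap (.refl _)).trans (sim_restrict_prod hc hR₁ hR₂)
  have h2 : 2 ≤ finrank F (AdjoinRoot P) := by rwa [finrank_adjoinRoot]
  obtain ⟨y, hy, -⟩ := (⊥ : Submodule F (AdjoinRoot P)).exists_le_ker_of_notMem
    ((cyc_one P).ne_zero h2)
  have h3 : LinearMap.det (GLC.cyc P) * LinearMap.det (S.restrict hR₂) = 1 := by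
    rw [← det_prodMap, e.det_eq, hd]
  obtain ⟨c, j, hj, h4, h5⟩ := Good.exists_blocks hg (H _ _ (GLC.cyc P) 1 1 y _ μ ⟨inferInstance, cyc_one P, h2,
    h3, (cyc_one P).notMem h2, hy, b2, hμ, fun h4 h5 => hb h4 (by
      obtain ⟨s, hs⟩ := mem_span_singleton.1 h5
      obtain ⟨h6, h7⟩ := (cyc_one P).det_eq h2 hs
      rw [det_eq_one_of_blocks b2 h4, mul_one, h7] at h3
      rw [finrank_adjoinRoot] at h6
      have h8 : ((X - 1 : F[X]) ^ 2).Monic := (monic_X_sub_C 1).pow 2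
      refine (eq_of_monic_of_dvd_of_natDegree_le hm h8 (AdjoinRoot.mk_eq_zero.1 ?_) (by
        rw [← C_1, natDegree_pow, natDegree_X_sub_C, h6])).symm
      have h9 : ∀ u, GLC.cyc P u = AdjoinRoot.root P * u := fun _ => rfl
      simp only [h3, h9, one_smul, mul_one] at hs
      simp only [map_pow, map_sub, AdjoinRoot.mk_X, map_one]
      linear_combination -hs)⟩ le_rfl (by rw [← e.finrank_eq, finrank_prod]))
  exact ⟨j, e.finrank_eq ▸ hj, Fac.of_sim ⟨c, h4, h5⟩ e.symm⟩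

theorem eq_one_of_finrank_eq_one (h : finrank F W = 1) (hd : LinearMap.det S = 1) : S = 1 := by
  obtain ⟨c, rfl⟩ := LinearMap.existsUnique_eq_smul_id_of_finrank_eq_one h S |>.exists
  rw [det_smul, h, pow_one, det_id, mul_one] at hd
  rw [hd, one_smul, End.one_eq_id]

theorem good_one (h : finrank F W = 1) {x : W} {y : W →ₗ[F] F} (hy : y x ≠ 0) : Good 1 1 x y := by
  have hx : x ≠ 0 := fun e => hy (by simp [e])
  have h1 := (finrank_eq_one_iff_of_nonzero' x hx).1 h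
  have h2 : Ann (1 : End F W) ((X - 1) ^ 1 * 1) := fun R => by
    rw [pow_one, mul_one, ← C_1, dvd_iff_isRoot]
    refine ⟨fun e => ?_, fun e => LinearMap.ext fun z => by simp [aeval_fixed, e.eq_zero]⟩
    simpa [e, hx] using (aeval_fixed (a := (1 : End F W)) (v := x) rfl R).symm
  refine ⟨1, 1, 1, mul_one _, by simp [h], h2, h2, fun z => ?_, fun z _ hz => ?_⟩
  · obtain ⟨s, rfl⟩ := h1 z
    exact ⟨s, 0, by simp⟩
  · obtain ⟨s, rfl⟩ := h1 z
    simp_all

theorem level_one (μ : Multiset F[X]) : Level 1 μ 2 := fun K R _ _ _ _ A v x y B ν h _ e => by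
  haveI := h.fin
  haveI := h.blocks.finite
  have h2 := h.two
  have h0 : ∀ Q ∈ ν, Q = X - 1 := fun Q hQ => by
    have := natDegree_le_of_mem h.blocks hQ
    have := h.pos Q hQ
    omega
  obtain ⟨φ, e1, e2, e3⟩ := exists_phi_one (h.cyc.notMem h2) h.hx
  obtain ⟨A', x', hs, hx'⟩ := exists_step e1 e2
  have h3 := hs.finrank_eq
  have h4 : finrank F (ker φ × R) = 1 := by rw [finrank_prod]; omega
  refine GoodP.step (by simp) hs e3 h.hy hx' ?_
  rw [GoodP, eq_one_of_finrank_eq_one (S := A'.prodMap B) h4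
    (by rw [det_prodMap, hs.det_eq, h.det])]
  refine good_one h4 fun e4 => h.beta h0 ?_
  have h5 : x' ≠ 0 := fun e => h.cyc.sub_ne h2 (by rw [← hx', e]; rfl)
  have h6 : finrank F (ker φ) = 1 := by omega
  obtain ⟨s, hs⟩ := (finrank_eq_one_iff_of_nonzero' x' h5).1 h6 ⟨A x', e4⟩
  exact mem_span_singleton.2 ⟨s, by simpa [hx'] using congrArg Subtype.val hs⟩

theorem reg_iff [Module.Finite F W] [Nontrivial W] : Blocks S {(X - 1) ^ finrank F W} ↔
    IsNilpotent (S - 1) ∧ finrank F (ker (S - 1)) = 1 := by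
  refine ⟨fun h => ?_, fun ⟨⟨k, h1⟩, h2⟩ =>
    blocks_of_finrank_ker_eq_one (c := 1) (k := k) (by simpa) (by rwa [one_smul])⟩
  have h1 : Blocks S (jt 1 {finrank F W}) := h
  exact ⟨by simpa using h1.jt_isNilpotent,
    one_smul F (1 : End F W) ▸ h1.jt_finrank_ker_one (by simpa using finrank_pos)⟩

theorem blocks_inv [Module.Finite F W] [Nontrivial W] {c d : End F W} (h : d * c = 1)
    (hc : Blocks c {(X - 1) ^ finrank F W}) : Blocks d {(X - 1) ^ finrank F W} := by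
  obtain ⟨h1, h2⟩ := reg_iff.1 hc
  have h3 : d - 1 = -d * (c - 1) := by rw [mul_sub, neg_mul, h]; noncomm_ring
  have h4 : IsUnit (-d) := (IsUnit.of_mul_eq_one _ h).neg
  have h5 : Commute d c := h.trans (mul_eq_one_comm.1 h).symm
  refine reg_iff.2 ⟨h3 ▸ (h5.sub_right (.one_right d)).neg_left.isNilpotent_mul_left h1, ?_⟩
  rwa [h3, End.mul_eq_comp, ker_comp_of_ker_eq_bot _ (ker_eq_bot.2 ((End.isUnit_iff _).1 h4).1)]

theorem fac_transvection (h : Blocks S ((X - 1) ^ 2 ::ₘ μ)) (hμ : ∀ Q ∈ μ, Q = X - 1)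
    (h3 : 3 ≤ finrank F W) : Fac S ((X - 1) ^ finrank F W) := by
  haveI := h.finite
  haveI : Nontrivial W := nontrivial_of_finrank_pos (R := F) (by omega)
  obtain ⟨n, hn⟩ : ∃ n, finrank F W = n + 3 := ⟨_, (Nat.sub_add_cancel h3).symm⟩
  obtain ⟨J, hJ⟩ := exists_blocks_of_finrank (V := W) (μ := jt (1 : F) {finrank F W}) (jt_monic _ _)
    (by simp [jt_map_natDegree])
  have h1 : Blocks S (jt 1 (2 ::ₘ Multiset.replicate μ.card 1)) := by
    rw [Multiset.eq_replicate_of_mem hμ] at h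
    simpa [jt] using h
  obtain ⟨N, rfl⟩ : ∃ N, J = 1 + N := ⟨J - 1, by simp⟩
  have h2 : N ^ (n + 3) = 0 := by simpa [hn] using (hJ.jt_pow_eq_zero_iff (k := n + 3)).2 (by simp [hn])
  have h4 := hJ.jt_finrank_ker (n + 2)
  have h5 := hJ.jt_finrank_ker 1
  have h6 := h1.jt_sum
  have h7 := h1.jt_finrank_ker_one (by simp [Multiset.mem_replicate])
  have h8 := (h1.jt_pow_eq_zero_iff (k := 2)).2 (by simp [Multiset.mem_replicate])
  rw [one_smul] at h7
  rw [one_smul, add_sub_cancel_left] at h4 h5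
  rw [pow_one] at h5
  simp only [one_smul, hn, Multiset.map_singleton, Multiset.sum_singleton, pow_one,
    Multiset.sum_cons, Multiset.sum_replicate, smul_eq_mul, mul_one, Multiset.card_cons,
    Multiset.card_replicate] at h4 h5 h6 h7 h8
  refine Fac.of_sim ⟨1 + N, hJ, reg_iff.2 ?_⟩ (sim_of_sq_eq_zero (g := 1 + N ^ (n + 2)) h8 (by
    rw [add_sub_cancel_left, ← pow_mul, pow_eq_zero_of_le (by omega) h2]) rfl (by
    rw [add_sub_cancel_left]; omega))
  have h9 : (1 + N ^ (n + 2)) * (1 + N) - 1 = (1 + N ^ (n + 1)) * N := by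
    rw [add_mul, add_mul, mul_add (N ^ _), ← pow_succ, ← pow_succ, h2]
    noncomm_ring
  have h10 : IsUnit (1 + N ^ (n + 1)) := (IsNilpotent.pow_succ n ⟨_, h2⟩).isUnit_one_add
  rw [h9, End.mul_eq_comp, ker_comp_of_ker_eq_bot _ (ker_eq_bot.2 ((End.isUnit_iff _).1 h10).1)]
  exact ⟨((Commute.one_left N).add_left ((Commute.refl N).pow_left _)).isNilpotent_mul_left ⟨_, h2⟩,
    by omega⟩

/-- A non-scalar endomorphism of determinant one is a product of two regular unipotent ones. -/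
theorem fac_unipotent [Module.Finite F W] (hF : ∀ a b c : F, ∃ t, t ≠ a ∧ t ≠ b ∧ t ≠ c)
    (h3 : 3 ≤ finrank F W) (hS : ∀ c : F, S ≠ c • 1) (hd : LinearMap.det S = 1) :
    Fac S ((X - 1) ^ finrank F W) := by
  have h0 := fun Q hQ => (typ_pp S Q hQ).natDegree_pos
  obtain ⟨P, μ, h1, h2, h4⟩ := exists_blocks_two (blocks_typ S) h0 hS
  by_cases hb : (∀ Q ∈ μ, Q = X - 1) → P ≠ (X - 1) ^ 2
  · obtain ⟨j, hj, h5⟩ := Level.fac monic_one h2 h4 (fun Q hQ => h0 Q (Multiset.mem_of_le h1 hQ)) hd hb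
      (Level.chain (by simp) le_rfl (fun _ => hF) (fun _ => let ⟨t, h⟩ := hF 0 1 1; ⟨t, h.1, h.2.1⟩)
        (level_one μ) (by omega))
    simpa [← hj] using h5
  · push Not at hb
    exact fac_transvection (hb.2 ▸ h2) hb.1 h3

end Cfsg.Lib.Ore
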